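import Cfsg.Agent.H67.Th.ThreeDData
import Cfsg.Agent.H40.Th.Table
import Cfsg.Agent.H40.Th.Main
import Cfsg.Prelude.Def_Exceptional

/-!
The subgroup `⟨a, b, c, d, e, s⟩` of the presented Thompson group is simple of order `211341312`,
given that `⟨a, b, c, d, e, s, t⟩` has order `634023936`.
-/

set_option autoImplicit false
set_option maxRecDepth 100000

open scoped commutatorElement

namespace Cfsg.Agent.H67.Th

open Cfsg.Agent.H45 Cfsg.Agent.H25.Th
open Cfsg.Agent.H40.Th (gen HH AA hLetters upTo_eight HH_le_upTo CC_le_centralizer AA_le_CC)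

/-- the action on 819 points -/
theorem P819 : PT 9 819 ivH cols819 := permCheck_PT permH

/-- the exponent of `t` -/
def tau (l : ℕ) : Multiplicative (ZMod 3) :=
  if l = 4 then Multiplicative.ofAdd 1 else if l = 5 then Multiplicative.ofAdd (-1) else 1

theorem tau_inv : ∀ l, l < 9 → tau (linv ivH l) = (tau l)⁻¹ := by decide +kernel

theorem tau_rel : ∀ w ∈ relH ++ [r0], evalW tau w = 1 := by decide +kernel

/-- values together with the exponent of `t` -/
def gT (l : ℕ) : Cfsg.Spor.Th × Multiplicative (ZMod 3) := (gv l, tau l)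

theorem evalW_gT : ∀ w : List ℕ, evalW gT w = (evalW gv w, evalW tau w) := by
  intro w
  induction w with
  | nil => simp [evalW, Prod.ext_iff]
  | cons x w ih => rw [evalW_cons, evalW_cons, evalW_cons, ih]; rfl

theorem gT_letters : HLetters gT := by
  refine ⟨fun l hl => ?_, fun w hw => ?_⟩
  · exact Prod.ext (hLetters.1 l hl) (tau_inv l hl)
  · rw [evalW_gT, hLetters.2 w hw, tau_rel w hw]; rfl

/-- the combined letters -/
def g3 : ℕ → (Cfsg.Spor.Th × Multiplicative (ZMod 3)) × Equiv.Perm (Fin 819) := pairE P819 gT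

theorem g3_bound : Finite (upTo g3 9) ∧ Nat.card (upTo g3 9) ≤ 634023936 :=
  (H_card ⟨pairE_inv _ gT_letters.1, pairE_rel permH gT_letters.2⟩).2

/-- the projection to Th -/
def pTh : upTo g3 9 →* Cfsg.Spor.Th :=
  ((MonoidHom.fst _ _).comp (MonoidHom.fst _ _)).comp (upTo g3 9).subtype

/-- the projection to the permutations -/
def pPerm : upTo g3 9 →* Equiv.Perm (Fin 819) := (MonoidHom.snd _ _).comp (upTo g3 9).subtype

/-- the projection to the exponent of `t` -/
def pTau : upTo g3 9 →* Multiplicative (ZMod 3) :=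
  ((MonoidHom.snd _ _).comp (MonoidHom.fst _ _)).comp (upTo g3 9).subtype

/-- a word in the combined group -/
def w3 (w : List ℕ) (hw : ∀ l ∈ w, l < 9) : upTo g3 9 := ⟨evalW g3 w, evalW_mem_upTo hw⟩

theorem pTh_w3 (w : List ℕ) (hw : ∀ l ∈ w, l < 9) : pTh (w3 w hw) = evalW gv w := by
  show (evalW g3 w).1.1 = _
  rw [g3, evalW_pair, evalW_gT]

theorem pPerm_w3 (w : List ℕ) (hw : ∀ l ∈ w, l < 9) : pPerm (w3 w hw) = evalW (sig P819) w := by
  show (evalW g3 w).2 = _
  rw [g3, evalW_pair]

theorem pTau_w3 (w : List ℕ) (hw : ∀ l ∈ w, l < 9) : pTau (w3 w hw) = evalW tau w := by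
  show (evalW g3 w).1.2 = _
  rw [g3, evalW_pair, evalW_gT]

/-- a letter in the combined group -/
def l3 (l : ℕ) (h : l < 9) : upTo g3 9 := w3 [l] (by simpa using h)

theorem pTh_l3 (l : ℕ) (h : l < 9) : pTh (l3 l h) = gv l := by
  rw [l3, pTh_w3]; simp [evalW]

theorem pPerm_l3 (l : ℕ) (h : l < 9) : pPerm (l3 l h) = sig P819 l := by
  rw [l3, pPerm_w3]; simp [evalW]

theorem upTo_gv_le : upTo gv 9 ≤ HH := by
  have hm : ∀ g : Cfsg.Spor.Th.Gen, g ≠ .u → gen g ∈ HH := by
    intro g hg
    cases g <;> first | exact absurd rfl hg | exact Subgroup.subset_closure (by simp)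
  refine (Subgroup.closure_le _).2 ?_
  rintro _ ⟨l, hl, rfl⟩
  interval_cases l
  exacts [hm .d (by decide), hm .e (by decide), hm .s (by decide), inv_mem (hm .s (by decide)),
    hm .t (by decide), inv_mem (hm .t (by decide)), hm .a (by decide), hm .c (by decide),
    hm .b (by decide)]

theorem pTh_range : pTh.range = HH := by
  refine le_antisymm ?_ ?_
  · rintro _ ⟨⟨x, hx⟩, rfl⟩
    refine upTo_gv_le ?_
    have : (upTo g3 9).map ((MonoidHom.fst _ _).comp (MonoidHom.fst _ _)) = upTo gv 9 := by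
      rw [upTo, upTo, MonoidHom.map_closure]
      congr 1
      ext y
      simp [g3, pairE, gT]
    rw [← this]
    exact ⟨x, hx, rfl⟩
  · refine HH_le_upTo.trans ((Subgroup.closure_le _).2 ?_)
    rintro _ ⟨l, hl, rfl⟩
    exact ⟨l3 l hl, pTh_l3 l hl⟩

variable (hcard : Nat.card HH = 634023936)

include hcard in
theorem pTh_injective : Function.Injective pTh := by
  have := g3_bound.1
  rw [← MonoidHom.ker_eq_bot_iff, ← Subgroup.card_eq_one]
  have h := pTh.ker.card_mul_index
  rw [Subgroup.index_ker, pTh_range, hcard] at h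
  have h2 := g3_bound.2
  have hpos : 0 < Nat.card pTh.ker := Nat.card_pos
  nlinarith

/-- the subgroup `⟨a, b, c, d, e, s⟩` -/
def LL : Subgroup Cfsg.Spor.Th :=
  Subgroup.closure {gen .a, gen .b, gen .c, gen .d, gen .e, gen .s}

theorem gv_mem_LL {l : ℕ} (h : l < 9) (h4 : l ≠ 4) (h5 : l ≠ 5) : gv l ∈ LL := by
  have hm : ∀ g : Cfsg.Spor.Th.Gen, g ≠ .u → g ≠ .t → gen g ∈ LL := by
    intro g hg hg'
    cases g <;>
      first | exact absurd rfl hg | exact absurd rfl hg' | exact Subgroup.subset_closure (by simp)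
  interval_cases l
  exacts [hm .d (by decide) (by decide), hm .e (by decide) (by decide),
    hm .s (by decide) (by decide), inv_mem (hm .s (by decide) (by decide)), absurd rfl h4,
    absurd rfl h5, hm .a (by decide) (by decide), hm .c (by decide) (by decide),
    hm .b (by decide) (by decide)]

theorem LL_le_HH : LL ≤ HH :=
  Subgroup.closure_mono (by intro x hx; simp at hx ⊢; tauto)

theorem t_cube : gv 4 * gv 4 * gv 4 = 1 := by
  have := hLetters.2 [4, 4, 4] (by decide)
  simpa [evalW, mul_assoc] using this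

theorem t_normalizes : ∀ g ∈ ({gen .a, gen .b, gen .c, gen .d, gen .e, gen .s} : Set Cfsg.Spor.Th),
    gv 5 * g * gv 4 ∈ LL := by
  have hv : ∀ l, [5, l, 4, l] ∈ relH ++ [r0] → gv 5 * gv l * gv 4 = (gv l)⁻¹ := by
    intro l h
    have := hLetters.2 _ h
    refine eq_inv_of_mul_eq_one_left ?_
    simpa [evalW, mul_assoc] using this
  have hs : gv 5 * gv 2 * gv 4 = (gv 3 * gv 3)⁻¹ := by
    refine eq_inv_of_mul_eq_one_left ?_
    have := hLetters.2 [5, 2, 4, 3, 3] (by decide)
    simpa [evalW, mul_assoc] using this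
  intro g hg
  simp only [Set.mem_insert_iff, Set.mem_singleton_iff] at hg
  rcases hg with rfl | rfl | rfl | rfl | rfl | rfl
  · rw [show gen .a = gv 6 from rfl, hv 6 (by decide)]
    exact inv_mem (gv_mem_LL (by decide) (by decide) (by decide))
  · rw [show gen .b = gv 8 from rfl, hv 8 (by decide)]
    exact inv_mem (gv_mem_LL (by decide) (by decide) (by decide))
  · rw [show gen .c = gv 7 from rfl, hv 7 (by decide)]
    exact inv_mem (gv_mem_LL (by decide) (by decide) (by decide))
  · rw [show gen .d = gv 0 from rfl, hv 0 (by decide)]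
    exact inv_mem (gv_mem_LL (by decide) (by decide) (by decide))
  · rw [show gen .e = gv 1 from rfl, hv 1 (by decide)]
    exact inv_mem (gv_mem_LL (by decide) (by decide) (by decide))
  · rw [show gen .s = gv 2 from rfl, hs]
    exact inv_mem (mul_mem (gv_mem_LL (by decide) (by decide) (by decide))
      (gv_mem_LL (by decide) (by decide) (by decide)))

theorem conj_LL {x : Cfsg.Spor.Th} (hx : x ∈ LL) : gv 5 * x * gv 4 ∈ LL := by
  have h5 : gv 5 = (gv 4)⁻¹ := rfl
  have hle : LL ≤ LL.comap (MulAut.conj (gv 5)).toMonoidHom := by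
    refine (Subgroup.closure_le _).2 fun g hg => ?_
    show gv 5 * g * (gv 5)⁻¹ ∈ LL
    rw [h5, inv_inv, ← h5]
    exact t_normalizes g hg
  have := hle hx
  simpa [h5] using this

theorem index_LL_le : ∀ h ∈ HH, ∃ i < 3, h * ((gv 4) ^ i)⁻¹ ∈ LL := by
  have h5 : gv 5 = (gv 4)⁻¹ := rfl
  have h4i : (gv 4)⁻¹ = gv 4 * gv 4 := inv_eq_of_mul_eq_one_right (by rw [← mul_assoc]; exact t_cube)
  intro h hh
  have hmem : ∀ l < 9, ∀ i < 3, ∀ y : Cfsg.Spor.Th, y * ((gv 4) ^ i)⁻¹ ∈ LL →
      ∃ j < 3, y * gv l * ((gv 4) ^ j)⁻¹ ∈ LL := by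
    intro l hl i hi y hy
    by_cases hl4 : l = 4
    · subst hl4
      interval_cases i
      · exact ⟨1, by norm_num, by simpa using hy⟩
      · exact ⟨2, by norm_num, by simpa [pow_succ, mul_assoc] using hy⟩
      · refine ⟨0, by norm_num, ?_⟩
        simp only [pow_succ, pow_zero, one_mul, inv_one, mul_one] at hy ⊢
        rwa [show (gv 4 * gv 4)⁻¹ = gv 4 by rw [← h4i, inv_inv]] at hy
    by_cases hl5 : l = 5
    · subst hl5
      rw [h5]
      interval_cases i
      · refine ⟨2, by norm_num, ?_⟩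
        simp only [pow_succ, pow_zero, one_mul, inv_one, mul_one] at hy ⊢
        rwa [h4i, mul_inv_cancel_right]
      · exact ⟨0, by norm_num, by simpa using hy⟩
      · exact ⟨1, by norm_num, by simpa [pow_succ, mul_assoc] using hy⟩
    refine ⟨i, hi, ?_⟩
    have hg := gv_mem_LL hl hl4 hl5
    have hconj : ∀ k : ℕ, ∀ z ∈ LL, (gv 4) ^ k * z * ((gv 4) ^ k)⁻¹ ∈ LL := by
      intro k
      induction k with
      | zero => intro z hz; simpa using hz
      | succ k ih =>
        intro z hz
        have h2 : gv 4 * z * (gv 4)⁻¹ ∈ LL := by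
          have := conj_LL (conj_LL hz)
          rw [h5, h4i] at this
          have e : gv 4 * z * (gv 4 * gv 4) =
              gv 4 * gv 4 * (gv 4 * gv 4 * z * gv 4) * gv 4 := by
            calc gv 4 * z * (gv 4 * gv 4)
                = (gv 4 * gv 4 * gv 4) * gv 4 * z * gv 4 * gv 4 := by rw [t_cube]; group
              _ = _ := by group
          rw [h4i, e]
          exact this
        have := ih _ h2
        simpa [pow_succ, mul_assoc, mul_inv_rev] using this
    have e2 : y * gv l * ((gv 4) ^ i)⁻¹ =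
        (y * ((gv 4) ^ i)⁻¹) * ((gv 4) ^ i * gv l * ((gv 4) ^ i)⁻¹) := by group
    rw [e2]
    exact LL.mul_mem hy (hconj i _ hg)
  have hh' : h ∈ upTo gv 9 := HH_le_upTo hh
  induction hh' using Subgroup.closure_induction_right with
  | one => exact ⟨0, by norm_num, by simp⟩
  | mul_right x hx y hy ih =>
    obtain ⟨l, hl, rfl⟩ := hy
    obtain ⟨i, hi, hyi⟩ := ih (upTo_gv_le hx)
    exact hmem l hl i hi x hyi
  | mul_inv_cancel x hx y hy ih =>
    obtain ⟨l, hl, rfl⟩ := hy
    obtain ⟨i, hi, hyi⟩ := ih (upTo_gv_le hx)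
    have hl' : linv ivH l < 9 := P819.inv_lt l hl
    rw [← hLetters.1 l hl]
    exact hmem _ hl' i hi x hyi

/-- `LL` inside the combined group -/
def L3 : Subgroup (upTo g3 9) := LL.comap pTh

include hcard in
theorem card_LL : Nat.card LL = 211341312 ∧ L3 = pTau.ker := by
  have := g3_bound.1
  have hfin : Finite HH := Nat.finite_of_card_ne_zero (by rw [hcard]; norm_num)
  have hLfin : Finite LL := Finite.of_injective _ (Subgroup.inclusion_injective LL_le_HH)
  have hmap : L3.map pTh = LL := by
    rw [L3, Subgroup.map_comap_eq, pTh_range, inf_eq_right.2 LL_le_HH]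
  have hc : Nat.card L3 = Nat.card LL := by
    rw [← hmap, Subgroup.card_map_of_injective (pTh_injective hcard)]
  -- at most three cosets
  have h3 : Nat.card HH ≤ 3 * Nat.card LL := by
    let f : Fin 3 × LL → HH := fun p =>
      ⟨p.2.1 * (gv 4) ^ (p.1 : ℕ), HH.mul_mem (LL_le_HH p.2.2)
        (HH.pow_mem (upTo_gv_le (mem_upTo (by norm_num))) _)⟩
    have hf : Function.Surjective f := by
      rintro ⟨h, hh⟩
      obtain ⟨i, hi, hm⟩ := index_LL_le h hh
      exact ⟨(⟨i, hi⟩, ⟨_, hm⟩), Subtype.ext (by simp [f])⟩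
    simpa using Nat.card_le_card_of_surjective f hf
  have hle : L3 ≤ pTau.ker := by
    rintro x hx
    have hx' : x ∈ (Subgroup.closure
        {y : upTo g3 9 | ∃ l, ∃ h : l < 9, l ≠ 4 ∧ l ≠ 5 ∧ y = l3 l h}) := by
      have himg : Subgroup.map pTh (Subgroup.closure
          {y : upTo g3 9 | ∃ l, ∃ h : l < 9, l ≠ 4 ∧ l ≠ 5 ∧ y = l3 l h}) = LL := by
        rw [MonoidHom.map_closure]
        refine le_antisymm ((Subgroup.closure_le _).2 ?_) ((Subgroup.closure_le _).2 ?_)
        · rintro _ ⟨_, ⟨l, h, h4, h5, rfl⟩, rfl⟩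
          rw [pTh_l3]
          exact gv_mem_LL h h4 h5
        · intro g hg
          simp only [Set.mem_insert_iff, Set.mem_singleton_iff] at hg
          refine Subgroup.subset_closure ?_
          rcases hg with rfl | rfl | rfl | rfl | rfl | rfl
          · exact ⟨l3 6 (by norm_num), ⟨6, by norm_num, by norm_num, by norm_num, rfl⟩, pTh_l3 _ _⟩
          · exact ⟨l3 8 (by norm_num), ⟨8, by norm_num, by norm_num, by norm_num, rfl⟩, pTh_l3 _ _⟩
          · exact ⟨l3 7 (by norm_num), ⟨7, by norm_num, by norm_num, by norm_num, rfl⟩, pTh_l3 _ _⟩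
          · exact ⟨l3 0 (by norm_num), ⟨0, by norm_num, by norm_num, by norm_num, rfl⟩, pTh_l3 _ _⟩
          · exact ⟨l3 1 (by norm_num), ⟨1, by norm_num, by norm_num, by norm_num, rfl⟩, pTh_l3 _ _⟩
          · exact ⟨l3 2 (by norm_num), ⟨2, by norm_num, by norm_num, by norm_num, rfl⟩, pTh_l3 _ _⟩
      have hxL : pTh x ∈ LL := hx
      rw [← himg] at hxL
      obtain ⟨y, hy, hxy⟩ := hxL
      rwa [← pTh_injective hcard hxy]
    refine (Subgroup.closure_le _).2 ?_ hx'
    rintro _ ⟨l, h, h4, h5, rfl⟩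
    rw [SetLike.mem_coe, MonoidHom.mem_ker, l3, pTau_w3]
    simp [evalW, tau, h4, h5]
  have hker : Nat.card pTau.ker * 3 ≤ 634023936 := by
    have h := pTau.ker.card_mul_index
    rw [Subgroup.index_ker] at h
    have hr : 3 ≤ Nat.card pTau.range := by
      have : pTau.range = ⊤ := by
        refine Subgroup.eq_top_of_le_card _ ?_
        by_contra hlt
        have hdvd := Subgroup.card_subgroup_dvd_card pTau.range
        rw [show Nat.card (Multiplicative (ZMod 3)) = 3 by simp] at hlt hdvd
        rcases (Nat.dvd_prime Nat.prime_three).1 hdvd with h1 | h1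
        · have hbot := Subgroup.card_eq_one.1 h1
          have hm : tau 4 ∈ pTau.range :=
            ⟨l3 4 (by norm_num), by rw [l3, pTau_w3]; simp [evalW]⟩
          rw [hbot, Subgroup.mem_bot] at hm
          exact absurd hm (by decide)
        · omega
      rw [this, Subgroup.card_top]; simp
    have := g3_bound.2
    calc Nat.card pTau.ker * 3 ≤ Nat.card pTau.ker * Nat.card pTau.range :=
          Nat.mul_le_mul_left _ hr
      _ ≤ 634023936 := by omega
  have h1 := Nat.le_of_dvd Nat.card_pos (Subgroup.card_dvd_of_le hle)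
  rw [hc] at h1
  refine ⟨by omega, Subgroup.eq_of_le_of_card_ge hle (by omega)⟩

/-- the action of `LL` on 819 points -/
noncomputable def phi : LL →* Equiv.Perm (Fin 819) :=
  pPerm.comp ((MonoidHom.ofInjective (pTh_injective hcard)).symm.toMonoidHom.comp
    (Subgroup.inclusion (show LL ≤ pTh.range from pTh_range.symm ▸ LL_le_HH)))

theorem phi_spec (x : upTo g3 9) (hx : pTh x ∈ LL) : phi hcard ⟨pTh x, hx⟩ = pPerm x := by
  unfold phi
  refine congrArg pPerm ?_
  show (MonoidHom.ofInjective (pTh_injective hcard)).symm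
    (Subgroup.inclusion _ ⟨pTh x, hx⟩) = x
  rw [MulEquiv.symm_apply_eq]
  exact Subtype.ext rfl

theorem phi_word (w : List ℕ) (hw : ∀ l ∈ w, l < 9) (hm : evalW gv w ∈ LL) :
    phi hcard ⟨evalW gv w, hm⟩ = evalW (sig P819) w := by
  have h := phi_spec hcard (w3 w hw) ((pTh_w3 w hw).symm ▸ hm)
  rw [pPerm_w3] at h
  rw [← h]
  exact congrArg (phi hcard) (Subtype.ext (pTh_w3 w hw).symm)

include hcard in
theorem pPerm_injective : Function.Injective pPerm := by
  have := g3_bound.1
  rw [← MonoidHom.ker_eq_bot_iff, ← Subgroup.card_eq_one]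
  have hge : 634023936 ≤ Nat.card pPerm.range := by
    have h := chainCheck_sound P819 chainH_ok pPerm.range (fun lv hlv g hg =>
      ⟨w3 g (chainCheck_letters chainH_ok lv hlv g hg), pPerm_w3 _ _⟩)
    rwa [chainH_prod] at h
  have h := pPerm.ker.card_mul_index
  rw [Subgroup.index_ker] at h
  have h2 := g3_bound.2
  have hpos : 0 < Nat.card pPerm.ker := Nat.card_pos
  nlinarith

theorem phi_injective : Function.Injective (phi hcard) :=
  (pPerm_injective hcard).comp (((MonoidHom.ofInjective (pTh_injective hcard)).symm.injective).comp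
    (Subgroup.inclusion_injective _))

/-- the letters `0 … 7` fix the point zero -/
theorem fix_zero : ((List.range 8).all fun l =>
    Nat.beq (walkC [cols819.getD l 0] 0) 0) = true := by decide +kernel

/-- the point stabiliser in the combined group is the preimage of `AA` -/
theorem fix_point (x : upTo g3 9) (hx : pPerm x ⟨0, by norm_num⟩ = ⟨0, by norm_num⟩) :
    pTh x ∈ upTo gv 8 := by
  have := g3_bound.1
  let b : Fin 819 := ⟨0, by norm_num⟩
  let S : Subgroup (upTo g3 9) := (MulAction.stabilizer (Equiv.Perm (Fin 819)) b).comap pPerm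
  let A8 : Subgroup (upTo g3 9) := (upTo g3 8).comap (upTo g3 9).subtype
  have hA8 : A8 ≤ S := by
    rintro ⟨y, hy⟩ (hy8 : y ∈ upTo g3 8)
    have hle : upTo g3 8 ≤ (MulAction.stabilizer (Equiv.Perm (Fin 819)) b).comap
        (MonoidHom.snd (Cfsg.Spor.Th × Multiplicative (ZMod 3)) (Equiv.Perm (Fin 819))) := by
      refine (Subgroup.closure_le _).2 ?_
      rintro _ ⟨l, hl, rfl⟩
      show (sig P819 l) b = b
      rw [← Equiv.Perm.eq_inv_iff_eq]
      apply Fin.ext
      have h0 := List.all_eq_true.mp fix_zero l (List.mem_range.2 hl)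
      rw [Nat.beq_eq] at h0
      have hw := sig_walk P819 [l] (by simp; omega) b
      rw [← walkC_map] at hw
      simp only [evalW, List.map_cons, List.map_nil, List.prod_cons, List.prod_nil, mul_one] at hw
      rw [hw]
      exact h0.symm
    exact hle hy8
  -- the orbit of zero has all points
  obtain ⟨lv, rest, hlvs, hb0⟩ : ∃ lv rest, chainH = lv :: rest ∧ lv.base = 0 :=
    ⟨_, _, rfl, rfl⟩
  have hcnt : lv.count = 819 := by
    have : chainH.head? = some lv := by rw [hlvs]; rfl
    have h2 : chainH.head?.map (fun lv => lv.count) = some 819 := rfl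
    rw [this] at h2
    simpa using h2
  have hchk := chainH_ok
  rw [hlvs] at hchk
  have hlet := chainCheck_letters hchk
  simp only [chainCheck, Bool.and_eq_true] at hchk
  obtain ⟨hb, horb⟩ := orbLow_sound P819 (hlet lv List.mem_cons_self) hchk.1.2
  have horb' := horb pPerm.range fun g hg =>
    ⟨w3 g (hlet lv List.mem_cons_self g hg), pPerm_w3 _ _⟩
  rw [hcnt] at horb'
  let f : upTo g3 9 →* pPerm.range := pPerm.rangeRestrict
  have hS : S = (MulAction.stabilizer pPerm.range b).comap f := rfl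
  have hidx : 819 ≤ S.index := by
    rw [hS, Subgroup.index_comap_of_surjective _ pPerm.rangeRestrict_surjective,
      MulAction.index_stabilizer, ← Nat.card_coe_set_eq]
    have e : b = ⟨lv.base, hb⟩ := Fin.ext hb0.symm
    rw [e]
    exact horb'
  -- and the letters below eight generate at least this much
  have hAidx : A8.index ≤ 819 := by
    have hL : HLetters g3 := ⟨pairE_inv _ gT_letters.1, pairE_rel permH gT_letters.2⟩
    obtain ⟨hcos, -, -⟩ := H_card hL
    classical
    let rep : Fin 819 → upTo g3 9 ⧸ A8 := fun i =>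
      if h : datHh.X g3 (pget 20 liveHh i) ∈ upTo g3 9 then
        QuotientGroup.mk (⟨_, h⟩ : upTo g3 9)⁻¹ else QuotientGroup.mk 1
    have hrep : Function.Surjective rep := by
      intro q
      obtain ⟨⟨y, hy⟩, rfl⟩ := QuotientGroup.mk_surjective q
      obtain ⟨i, hi, hm⟩ := hcos y⁻¹ (inv_mem hy)
      have hX : datHh.X g3 (pget 20 liveHh i) ∈ upTo g3 9 := by
        have h1 := mul_mem (inv_mem (upTo_mono g3 (show 8 ≤ 9 by norm_num) hm)) (inv_mem hy)
        simpa [mul_assoc] using h1
      refine ⟨⟨i, hi⟩, ?_⟩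
      simp only [rep, dif_pos hX]
      rw [QuotientGroup.eq, inv_inv]
      show ((⟨_, hX⟩ : upTo g3 9) * ⟨y, hy⟩ : upTo g3 9).1 ∈ upTo g3 8
      have h3 := inv_mem hm
      simpa [mul_inv_rev] using h3
    rw [Subgroup.index_eq_card]
    simpa using Nat.card_le_card_of_surjective rep hrep
  have heq : A8 = S := by
    refine Subgroup.eq_of_le_of_card_ge hA8 ?_
    have h1 := A8.card_mul_index
    have h2 := S.card_mul_index
    have h3 : Nat.card S * 819 ≤ Nat.card A8 * 819 := by
      calc Nat.card S * 819 ≤ Nat.card S * S.index := Nat.mul_le_mul_left _ hidx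
        _ = Nat.card A8 * A8.index := by omega
        _ ≤ Nat.card A8 * 819 := Nat.mul_le_mul_left _ hAidx
    omega
  have hxA : x ∈ A8 := by rw [heq]; exact hx
  have hle8 : upTo g3 8 ≤ (upTo gv 8).comap
      ((MonoidHom.fst Cfsg.Spor.Th _).comp (MonoidHom.fst _ (Equiv.Perm (Fin 819)))) := by
    refine (Subgroup.closure_le _).2 ?_
    rintro _ ⟨l, hl, rfl⟩
    exact mem_upTo hl
  exact hle8 hxA

theorem commute_a {x : Cfsg.Spor.Th} (hx : x ∈ upTo gv 8) : x * gv 6 = gv 6 * x := by
  have hxA : x ∈ AA := upTo_eight ▸ hx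
  exact Subgroup.mem_centralizer_singleton_iff.mp (CC_le_centralizer (AA_le_CC hxA))

/-- the relations force triviality once `a = 1` -/
theorem collapse {G : Type*} [Group G] (f : ℕ → G)
    (hR : ∀ w ∈ relH, (∀ l ∈ w, l ≠ 4 ∧ l ≠ 5) → evalW f w = 1) (hs3 : f 3 = (f 2)⁻¹) (ha : f 6 = 1) :
    f 0 = 1 ∧ f 1 = 1 ∧ f 2 = 1 ∧ f 7 = 1 ∧ f 8 = 1 := by
  have r : ∀ w ∈ relH, (∀ l ∈ w, l ≠ 4 ∧ l ≠ 5) → (w.map f).prod = 1 := hR
  have hb2 := r [8, 8] (by decide) (by decide)
  have hb3 := r [6, 8, 6, 8, 6, 8] (by decide) (by decide)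
  have hc2 := r [7, 7] (by decide) (by decide)
  have hc3 := r [8, 7, 8, 7, 8, 7] (by decide) (by decide)
  simp only [List.map_cons, List.map_nil, List.prod_cons, List.prod_nil, mul_one, ha, one_mul]
    at hb2 hb3 hc2 hc3
  have hb : f 8 = 1 := by rwa [hb2, mul_one] at hb3
  simp only [hb, one_mul] at hc3
  have hc : f 7 = 1 := by rwa [hc2, mul_one] at hc3
  have hd2 := r [0, 0] (by decide) (by decide)
  have he2 := r [1, 1] (by decide) (by decide)
  have hde3 := r [0, 1, 0, 1, 0, 1] (by decide) (by decide)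
  have h8 := r [8, 7, 0, 1, 8, 7, 0, 1, 8, 7, 0, 1, 8, 7, 0, 1, 8, 7, 0, 1, 8, 7, 0, 1, 8, 7, 0, 1,
    8, 7, 0, 1] (by decide) (by decide)
  have hsd := r [2, 0, 2, 0] (by decide) (by decide)
  have hes := r [1, 3, 1, 3, 3, 1, 2, 2, 2] (by decide) (by decide)
  have hs7 := r [2, 2, 2, 2, 2, 2, 2] (by decide) (by decide)
  simp only [List.map_cons, List.map_nil, List.prod_cons, List.prod_nil, mul_one, one_mul, hb, hc,
    hs3] at hd2 he2 hde3 h8 hsd hes hs7
  have hde : f 0 * f 1 = 1 := by
    have q3 : (f 0 * f 1) ^ 3 = 1 := by simpa [pow_succ, mul_assoc] using hde3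
    have q8 : (f 0 * f 1) ^ 8 = 1 := by simpa [pow_succ, mul_assoc] using h8
    have h1 := Nat.dvd_gcd (orderOf_dvd_of_pow_eq_one q3) (orderOf_dvd_of_pow_eq_one q8)
    exact orderOf_eq_one_iff.mp (Nat.dvd_one.mp h1)
  have hd : f 0 = f 1 := by
    rw [eq_inv_of_mul_eq_one_left hde, inv_eq_of_mul_eq_one_left he2]
  rw [hd] at hsd
  have hese : f 1 * f 2 * f 1 = (f 2)⁻¹ := by
    refine eq_inv_of_mul_eq_one_right ?_
    simpa [mul_assoc] using hsd
  have hese' : f 1 * (f 2)⁻¹ * f 1 = f 2 := by
    have h1 : f 2 * f 1 * f 2 = f 1 := by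
      have := eq_inv_of_mul_eq_one_left (show f 2 * f 1 * f 2 * f 1 = 1 by simpa [mul_assoc] using hsd)
      rw [this, inv_eq_of_mul_eq_one_left he2]
    calc f 1 * (f 2)⁻¹ * f 1 = f 1 * (f 2)⁻¹ * (f 2 * f 1 * f 2) := by rw [h1]
      _ = (f 1 * f 1) * f 2 := by group
      _ = f 2 := by rw [he2, one_mul]
  have hs : f 2 = 1 := by
    have h1 : f 2 * ((f 2)⁻¹ * (f 2)⁻¹ * (f 1 * (f 2 * f 2 * f 2))) = 1 := by
      rw [← hes]
      calc f 2 * ((f 2)⁻¹ * (f 2)⁻¹ * (f 1 * (f 2 * f 2 * f 2)))
          = (f 2)⁻¹ * (f 1 * (f 2 * f 2 * f 2)) := by group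
        _ = _ := by
          conv_rhs => rw [← mul_assoc, ← mul_assoc, hese']
          group
    have he' : f 1 = (f 2 * f 2 * f 2 * f 2)⁻¹ * (f 2 * f 2) := by
      have h2 : (f 2)⁻¹ * f 1 * (f 2 * f 2 * f 2) = 1 := by
        rw [← h1]; group
      have h3 := eq_inv_of_mul_eq_one_left h2
      rw [inv_mul_eq_iff_eq_mul] at h3
      rw [h3]; group
    have h4 : f 2 ^ 4 = 1 := by
      have h5 : f 1 * f 1 = ((f 2 ^ 4)⁻¹) := by rw [he']; group
      rw [he2] at h5
      rw [← inv_inj, ← h5, inv_one]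
    have h7 : f 2 ^ 7 = 1 := by simpa [pow_succ, mul_assoc] using hs7
    have h1 := Nat.dvd_gcd (orderOf_dvd_of_pow_eq_one h4) (orderOf_dvd_of_pow_eq_one h7)
    exact orderOf_eq_one_iff.mp (Nat.dvd_one.mp h1)
  have he : f 1 = 1 := by
    simp only [hs, one_mul, mul_one, inv_one] at hes
    have : f 1 * (f 1 * f 1) = 1 := by simpa [mul_assoc] using hes
    rwa [he2, mul_one] at this
  exact ⟨hd.trans he, he, hs, hc, hb⟩

/-- the letters inside `LL` (`t` sent to one) -/
noncomputable def eL (l : ℕ) : LL :=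
  if h : l < 9 ∧ l ≠ 4 ∧ l ≠ 5 then ⟨gv l, gv_mem_LL h.1 h.2.1 h.2.2⟩ else 1

theorem evalW_eL : ∀ w : List ℕ, (∀ l ∈ w, l < 9 ∧ l ≠ 4 ∧ l ≠ 5) →
    ((evalW eL w : LL) : Cfsg.Spor.Th) = evalW gv w := by
  intro w
  induction w with
  | nil => intro _; simp [evalW]
  | cons l w ih =>
    intro h
    rw [evalW_cons, evalW_cons, Subgroup.coe_mul, ih fun m hm => h m (List.mem_cons_of_mem _ hm)]
    simp [eL, h l List.mem_cons_self]

theorem rel_eL {w : List ℕ} (hw : w ∈ relH) (h45 : ∀ l ∈ w, l ≠ 4 ∧ l ≠ 5) :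
    evalW eL w = 1 := by
  have hlt : ∀ l ∈ w, l < 9 := by
    have h : (relH.all fun w => w.all fun l => decide (l < 9)) = true := by decide +kernel
    intro l hl
    exact of_decide_eq_true (List.all_eq_true.mp (List.all_eq_true.mp h w hw) l hl)
  apply Subtype.ext
  rw [evalW_eL w fun l hl => ⟨hlt l hl, h45 l hl⟩]
  exact hLetters.2 w (List.mem_append_left _ hw)

theorem eL_three : eL 3 = (eL 2)⁻¹ := by
  apply Subtype.ext
  simp only [eL, show (3 : ℕ) < 9 ∧ 3 ≠ 4 ∧ 3 ≠ 5 by decide,
    show (2 : ℕ) < 9 ∧ 2 ≠ 4 ∧ 2 ≠ 5 by decide, dite_true, Subgroup.coe_inv]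
  exact hLetters.1 2 (by norm_num)

theorem collapse_LL {Q : Type*} [Group Q] (q : LL →* Q) (ha : q (eL 6) = 1) (x : LL) : q x = 1 := by
  let f : ℕ → Q := fun l => q (eL l)
  have hR : ∀ w ∈ relH, (∀ l ∈ w, l ≠ 4 ∧ l ≠ 5) → evalW f w = 1 := by
    intro w hw h
    have := congrArg q (rel_eL hw h)
    rwa [evalW, map_list_prod, List.map_map, map_one] at this
  obtain ⟨h0, h1, h2, h7, h8⟩ := collapse f hR
    (show q (eL 3) = (q (eL 2))⁻¹ by rw [eL_three, map_inv]) ha
  have htop : ∀ y : Cfsg.Spor.Th, ∀ hy : y ∈ LL, q ⟨y, hy⟩ = 1 := by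
    intro y hy
    induction hy using Subgroup.closure_induction with
    | mem g hg =>
      simp only [Set.mem_insert_iff, Set.mem_singleton_iff] at hg
      rcases hg with rfl | rfl | rfl | rfl | rfl | rfl
      · exact ha
      · exact h8
      · exact h7
      · exact h0
      · exact h1
      · exact h2
    | one => exact map_one q
    | mul u v hu hv ihu ihv =>
      show q (⟨u, hu⟩ * ⟨v, hv⟩) = 1
      rw [map_mul, ihu, ihv, one_mul]
    | inv u hu ihu =>
      show q (⟨u, hu⟩⁻¹) = 1
      rw [map_inv, ihu, inv_one]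
  exact htop x.1 x.2

/-- the backward words lead to the representatives and stay in the stabiliser letters -/
theorem back_ok : ((List.range 819).all fun j =>
    ((backW.getD j []).all fun l => [0, 1, 2, 3, 6, 7].contains l) &&
      (Nat.beq (walkV cols819 (backW.getD j []) j) 0 ||
        bWords.any fun t => Nat.beq (walkV cols819 (backW.getD j []) j) t.1)) = true := by
  decide +kernel

/-- the expansion of an expression in the letters `d e s s⁻¹ a c W W⁻¹` -/
def expand (W ks : List ℕ) : List ℕ :=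
  ks.flatMap fun k => [[0], [1], [2], [3], [6], [7], W, (W.map (linv ivH)).reverse].getD k []

/-- the representative words and the expressions of `b` -/
theorem bWords_ok : (bWords.all fun t =>
    (t.2.1.all fun l => decide (l < 9 ∧ l ≠ 4 ∧ l ≠ 5)) && Nat.beq (walkV cols819 t.2.1 0) t.1 &&
      (t.2.2.all fun k => decide (k < 8)) &&
        (List.range 819).all fun i =>
          Nat.beq (walkV cols819 (expand t.2.1 t.2.2) i) (walkV cols819 [8] i)) = true := by
  decide +kernel

theorem walkV_inv {w : List ℕ} (hw : ∀ l ∈ w, l < 9) (i : Fin 819) :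
    ((evalW (sig P819) w)⁻¹ i : ℕ) = walkV cols819 w i := by
  rw [sig_walk P819 w hw, walkV, walkC_map]

include hcard in
/-- a normal subgroup of `LL` is trivial or everything -/
theorem normal_LL (N : Subgroup LL) [hN : N.Normal] (hne : N ≠ ⊥) : N = ⊤ := by
  let b : Fin 819 := ⟨0, by norm_num⟩
  let φ := phi hcard
  let St : Subgroup LL := (MulAction.stabilizer (Equiv.Perm (Fin 819)) b).comap φ
  -- stabiliser elements commute with `a`
  have hcomm : ∀ x ∈ St, x * eL 6 = eL 6 * x := by
    intro x hx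
    obtain ⟨y, hy⟩ : (x : Cfsg.Spor.Th) ∈ pTh.range := pTh_range.symm ▸ LL_le_HH x.2
    have hxy : phi hcard x = pPerm y := by
      rw [← phi_spec hcard y (hy ▸ x.2)]
      exact congrArg (phi hcard) (Subtype.ext hy.symm)
    have h8 : pTh y ∈ upTo gv 8 := by
      refine fix_point y ?_
      rw [← hxy]
      exact hx
    apply Subtype.ext
    have := commute_a (hy ▸ h8)
    simpa [eL] using this
  have heval : ∀ w : List ℕ, (∀ l ∈ w, l < 9 ∧ l ≠ 4 ∧ l ≠ 5) →
      φ (evalW eL w) = evalW (sig P819) w := by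
    intro w hw
    have hmem : evalW gv w ∈ LL := evalW_eL w hw ▸ (evalW eL w).2
    rw [← phi_word hcard w (fun l hl => (hw l hl).1) hmem]
    exact congrArg (phi hcard) (Subtype.ext (evalW_eL w hw))
  have hA : ∀ w : List ℕ, (∀ l ∈ w, [0, 1, 2, 3, 6, 7].contains l = true) →
      (∀ l ∈ w, l < 9 ∧ l ≠ 4 ∧ l ≠ 5) ∧ evalW eL w ∈ St := by
    intro w hw
    have hl : ∀ l ∈ w, l < 8 ∧ l ≠ 4 ∧ l ≠ 5 := by
      intro l hl
      have := hw l hl
      simp only [List.contains_iff_mem, List.mem_cons, List.not_mem_nil, or_false] at this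
      omega
    refine ⟨fun l h => ⟨by have := hl l h; omega, (hl l h).2⟩, ?_⟩
    show φ (evalW eL w) b = b
    rw [heval w fun l h => ⟨by have := hl l h; omega, (hl l h).2⟩,
      ← Equiv.Perm.eq_inv_iff_eq]
    apply Fin.ext
    rw [walkV_inv fun l h => by have := hl l h; omega]
    clear hw
    induction w with
    | nil => rfl
    | cons l w ih =>
      have h0 := List.all_eq_true.mp fix_zero l (List.mem_range.2 (hl l List.mem_cons_self).1)
      rw [Nat.beq_eq] at h0
      have h1 := ih fun m hm => hl m (List.mem_cons_of_mem _ hm)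
      simp only [walkV, walkC_map, walkT] at h1 ⊢
      simp only [walkC, force_eq] at h0
      show (b : ℕ) = walkT cols819 w (tget cols819 0 l)
      rw [show tget cols819 0 l = 0 from h0]
      exact h1
  -- `N` together with the stabiliser is everything
  have hsup : N ⊔ St = ⊤ := by
    have hmove : ∃ x ∈ N, φ x b ≠ b := by
      by_contra h
      push Not at h
      apply hne
      rw [eq_bot_iff]
      intro x hx
      rw [Subgroup.mem_bot]
      apply phi_injective hcard
      rw [map_one]
      ext v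
      -- transitivity
      obtain ⟨g, hg⟩ : ∃ g : LL, φ g b = v := by
        have hjb := List.all_eq_true.mp back_ok v.1 (List.mem_range.2 v.2)
        simp only [Bool.and_eq_true, List.all_eq_true, Bool.or_eq_true, List.any_eq_true,
          Nat.beq_eq] at hjb
        obtain ⟨hlet, hend⟩ := hjb
        obtain ⟨hl, -⟩ := hA _ hlet
        rcases hend with hend | ⟨t, ht, hend⟩
        · refine ⟨evalW eL (backW.getD v.1 []), ?_⟩
          rw [heval _ hl, ← Equiv.Perm.eq_inv_iff_eq]
          apply Fin.ext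
          rw [walkV_inv fun l h => (hl l h).1, hend]
        · have hb' := List.all_eq_true.mp bWords_ok t ht
          simp only [Bool.and_eq_true, List.all_eq_true, decide_eq_true_eq, Nat.beq_eq] at hb'
          obtain ⟨⟨⟨hW, hWr⟩, -⟩, -⟩ := hb'
          refine ⟨evalW eL (backW.getD v.1 []) * (evalW eL t.2.1)⁻¹, ?_⟩
          rw [map_mul, map_inv, Equiv.Perm.mul_apply, heval _ hl, heval _ hW,
            ← Equiv.Perm.eq_inv_iff_eq]
          apply Fin.ext
          rw [walkV_inv fun l h => (hl l h).1, walkV_inv fun l h => (hW l h).1, hend, hWr]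
      have h2 := h (g⁻¹ * x * g) (by simpa using hN.conj_mem x hx g⁻¹)
      rw [map_mul, map_mul, map_inv, Equiv.Perm.mul_apply, Equiv.Perm.mul_apply, hg,
        Equiv.Perm.inv_eq_iff_eq, hg] at h2
      simpa using congrArg Fin.val h2
    obtain ⟨x, hxN, hxb⟩ := hmove
    have hxS : x⁻¹ ∈ N ⊔ St := inv_mem (Subgroup.mem_sup_left hxN)
    let j : Fin 819 := φ x b
    have hjb := List.all_eq_true.mp back_ok j.1 (List.mem_range.2 j.2)
    simp only [Bool.and_eq_true, List.all_eq_true, Bool.or_eq_true, List.any_eq_true,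
      Nat.beq_eq] at hjb
    obtain ⟨hlet, hend⟩ := hjb
    obtain ⟨hl, hmemA⟩ := hA _ hlet
    rcases hend with hend | ⟨t, ht, hend⟩
    · exfalso
      apply hxb
      have h1 : (evalW (sig P819) (backW.getD j.1 []))⁻¹ j = b := by
        apply Fin.ext
        rw [walkV_inv fun l h => (hl l h).1, hend]
      rw [Equiv.Perm.inv_eq_iff_eq] at h1
      have h2 : φ (evalW eL (backW.getD j.1 [])) b = b := hmemA
      rw [heval _ hl, ← h1] at h2
      exact h2
    · have hb' := List.all_eq_true.mp bWords_ok t ht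
      simp only [Bool.and_eq_true, List.all_eq_true, decide_eq_true_eq, Nat.beq_eq,
        List.mem_range] at hb'
      obtain ⟨⟨⟨hW, hWr⟩, hks⟩, heq⟩ := hb'
      have hWmem : evalW eL t.2.1 ∈ N ⊔ St := by
        have hfix : evalW eL t.2.1 * ((evalW eL (backW.getD j.1 []))⁻¹ * x) ∈ St := by
          show φ _ b = b
          rw [map_mul, map_mul, map_inv, Equiv.Perm.mul_apply, Equiv.Perm.mul_apply, heval _ hl,
            heval _ hW, ← Equiv.Perm.eq_inv_iff_eq]
          apply Fin.ext
          show ((evalW (sig P819) (backW.getD j.1 []))⁻¹ j : ℕ) =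
            ((evalW (sig P819) t.2.1)⁻¹ b : ℕ)
          rw [walkV_inv fun l h => (hl l h).1, walkV_inv fun l h => (hW l h).1, hend, hWr]
        have hprod : evalW eL t.2.1 = evalW eL t.2.1 * ((evalW eL (backW.getD j.1 []))⁻¹ * x) *
            (x⁻¹ * evalW eL (backW.getD j.1 [])) := by group
        rw [hprod]
        exact mul_mem (Subgroup.mem_sup_right hfix) (mul_mem hxS (Subgroup.mem_sup_right hmemA))
      -- the expression of `b`
      have hexp : ∀ ks : List ℕ, (∀ k ∈ ks, k < 8) →
          (∀ l ∈ expand t.2.1 ks, l < 9 ∧ l ≠ 4 ∧ l ≠ 5) ∧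
            evalW eL (expand t.2.1 ks) ∈ N ⊔ St := by
        have hWi : (∀ l ∈ (t.2.1.map (linv ivH)).reverse, l < 9 ∧ l ≠ 4 ∧ l ≠ 5) ∧
            evalW eL (t.2.1.map (linv ivH)).reverse = (evalW eL t.2.1)⁻¹ := by
          constructor
          · intro l hl'
            rw [List.mem_reverse, List.mem_map] at hl'
            obtain ⟨m, hm, rfl⟩ := hl'
            obtain ⟨h1, h2, h3⟩ := hW m hm
            interval_cases m <;> first | decide | omega
          · have hinv : ∀ m, m < 9 ∧ m ≠ 4 ∧ m ≠ 5 → eL (linv ivH m) = (eL m)⁻¹ := by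
              rintro m ⟨h1, h2, h3⟩
              have h' : linv ivH m < 9 ∧ linv ivH m ≠ 4 ∧ linv ivH m ≠ 5 := by
                interval_cases m <;> first | decide | omega
              apply Subtype.ext
              simp only [eL, dif_pos h', dif_pos (show m < 9 ∧ m ≠ 4 ∧ m ≠ 5 from ⟨h1, h2, h3⟩),
                Subgroup.coe_inv]
              exact hLetters.1 m h1
            clear hWr heq hWmem ht hend
            generalize t.2.1 = W at hW
            induction W with
            | nil => simp [evalW]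
            | cons m W ih =>
              rw [List.map_cons, List.reverse_cons, evalW_append, evalW_cons eL m W,
                ih fun l hl' => hW l (List.mem_cons_of_mem _ hl'), mul_inv_rev]
              simp [evalW, hinv m (hW m List.mem_cons_self)]
        intro ks
        induction ks with
        | nil => intro _; simp [expand, evalW, one_mem]
        | cons k ks ih =>
          intro hk
          obtain ⟨h1, h2⟩ := ih fun m hm => hk m (List.mem_cons_of_mem _ hm)
          have hone : ∀ l, [0, 1, 2, 3, 6, 7].contains l = true →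
              (∀ m ∈ [l], m < 9 ∧ m ≠ 4 ∧ m ≠ 5) ∧ evalW eL [l] ∈ N ⊔ St := fun l hlc => by
            obtain ⟨u, v⟩ := hA [l] (by simpa using hlc)
            exact ⟨u, Subgroup.mem_sup_right v⟩
          have hkk : (∀ m ∈ [[0], [1], [2], [3], [6], [7], t.2.1,
                (t.2.1.map (linv ivH)).reverse].getD k [], m < 9 ∧ m ≠ 4 ∧ m ≠ 5) ∧
              evalW eL ([[0], [1], [2], [3], [6], [7], t.2.1,
                (t.2.1.map (linv ivH)).reverse].getD k []) ∈ N ⊔ St := by
            have := hk k List.mem_cons_self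
            interval_cases k
            · exact hone 0 rfl
            · exact hone 1 rfl
            · exact hone 2 rfl
            · exact hone 3 rfl
            · exact hone 6 rfl
            · exact hone 7 rfl
            · exact ⟨hW, hWmem⟩
            · exact ⟨hWi.1, by
                show evalW eL (t.2.1.map (linv ivH)).reverse ∈ N ⊔ St
                rw [hWi.2]; exact inv_mem hWmem⟩
          simp only [expand, List.flatMap_cons, evalW_append, List.mem_append]
          exact ⟨fun m hm => hm.elim (hkk.1 m) (h1 m), mul_mem hkk.2 h2⟩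
      obtain ⟨hel, hmem⟩ := hexp _ hks
      have hb : eL 8 ∈ N ⊔ St := by
        have : eL 8 = evalW eL (expand t.2.1 t.2.2) := by
          apply phi_injective hcard
          show φ (eL 8) = φ (evalW eL (expand t.2.1 t.2.2))
          rw [heval _ hel, show eL 8 = evalW eL [8] by simp [evalW], heval [8] (by simp),
            ← inv_inj]
          ext v
          rw [walkV_inv (by simp), walkV_inv fun l h => (hel l h).1]
          exact (heq v.1 v.2).symm
        rw [this]; exact hmem
      rw [eq_top_iff]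
      rintro ⟨y, hy⟩ -
      induction hy using Subgroup.closure_induction with
      | mem g hg =>
        have hone : ∀ l, [0, 1, 2, 3, 6, 7].contains l = true → eL l ∈ N ⊔ St := fun l hlc => by
          have := (hA [l] (by simpa using hlc)).2
          exact Subgroup.mem_sup_right (by simpa [evalW] using this)
        simp only [Set.mem_insert_iff, Set.mem_singleton_iff] at hg
        rcases hg with rfl | rfl | rfl | rfl | rfl | rfl
        · exact hone 6 rfl
        · exact hb
        · exact hone 7 rfl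
        · exact hone 0 rfl
        · exact hone 1 rfl
        · exact hone 2 rfl
      | one => exact one_mem _
      | mul u v hu hv ihu ihv => exact mul_mem ihu ihv
      | inv u hu ihu => exact inv_mem ihu
  -- conjugates of `a` agree modulo `N`
  let q := QuotientGroup.mk' N
  have hcent : ∀ y : LL, Commute (q y) (q (eL 6)) := by
    intro y
    obtain ⟨n, hn, s, hs, rfl⟩ := Subgroup.mem_sup_of_normal_left.1 (hsup ▸ Subgroup.mem_top y)
    rw [map_mul, show q n = 1 from (QuotientGroup.eq_one_iff n).2 hn, one_mul]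
    exact Commute.map (hcomm s hs) q
  have hnorm : (Subgroup.zpowers (q (eL 6))).Normal := by
    refine ⟨fun u hu g => ?_⟩
    obtain ⟨y, rfl⟩ := QuotientGroup.mk'_surjective N g
    obtain ⟨i, rfl⟩ := Subgroup.mem_zpowers_iff.1 hu
    rw [((hcent y).zpow_right i).eq, mul_inv_cancel_right]
    exact ⟨i, rfl⟩
  have habel : ∀ y : LL, q y ∈ Subgroup.zpowers (q (eL 6)) := by
    intro y
    have h := collapse_LL ((QuotientGroup.mk' (Subgroup.zpowers (q (eL 6)))).comp q)
      ((QuotientGroup.eq_one_iff _).2 (Subgroup.mem_zpowers _)) y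
    exact (QuotientGroup.eq_one_iff _).1 h
  have hqc : ∀ u v : LL, Commute (q u) (q v) := by
    intro u v
    obtain ⟨i, hi⟩ := habel u
    obtain ⟨k, hk⟩ := habel v
    rw [← hi, ← hk]
    exact Commute.zpow_zpow_self _ i k
  have ha : q (eL 6) = 1 := by
    let f : ℕ → LL ⧸ N := fun l => q (eL l)
    have hrel : ∀ w ∈ relH, (∀ l ∈ w, l ≠ 4 ∧ l ≠ 5) → (w.map f).prod = 1 := by
      intro w hw h
      have := congrArg q (rel_eL hw h)
      rwa [evalW, map_list_prod, List.map_map, map_one] at this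
    have hd2 := hrel [0, 0] (by decide) (by decide)
    have hc2 := hrel [7, 7] (by decide) (by decide)
    have ha' := hrel [6, 0, 7, 0, 7, 0, 7, 0, 7] (by decide) (by decide)
    simp only [List.map_cons, List.map_nil, List.prod_cons, List.prod_nil, mul_one] at hd2 hc2 ha'
    have hdc : (f 0 * f 7) * (f 0 * f 7) = 1 := by
      rw [mul_assoc (f 0), ← mul_assoc (f 7), (hqc (eL 7) (eL 0)).eq, mul_assoc (q (eL 0)),
        ← mul_assoc]
      show f 0 * f 0 * (f 7 * f 7) = 1
      rw [hd2, hc2, one_mul]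
    calc q (eL 6) = f 6 * ((f 0 * f 7) * (f 0 * f 7) * ((f 0 * f 7) * (f 0 * f 7))) := by
          rw [hdc]; simp [f]
      _ = 1 := by rw [← ha']; simp only [mul_assoc]
  rw [eq_top_iff]
  intro y _
  exact (QuotientGroup.eq_one_iff y).1 (collapse_LL q ha y)

include hcard in
/-- `⟨a, b, c, d, e, s⟩` is `³D₄(2)` -/
theorem is3D4_LL : Cfsg.Is3D4 LL := by
  have hc := (card_LL hcard).1
  have : Finite LL := Nat.finite_of_card_ne_zero (by rw [hc]; norm_num)
  have : Nontrivial LL := Finite.one_lt_card_iff_nontrivial.1 (by rw [hc]; norm_num)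
  refine ⟨⟨fun N hN => (em (N = ⊥)).imp_right fun h => normal_LL hcard N (hN := hN) h⟩, 2,
    (Nat.prime_two.isPrimePow), ?_⟩
  rw [hc]
  norm_num

end Cfsg.Agent.H67.Th
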