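import Cfsg.Agent.H67.Th.Simple
import Cfsg.Agent.H67.Th.ThreeD
import Cfsg.Agent.H32.ThRep.Order
import Cfsg.Prelude.Def_Sporadic

/-!
The rows on the presented Thompson group, from the two upper bounds and the centraliser of `a`.
-/

set_option autoImplicit false

namespace Cfsg.Agent.H67.Th

open Cfsg.Agent.H40.Th (gen HH CC)

attribute [local irreducible] Cfsg.Agent.H32.ThRep.rep248

theorem index_map_eq {G H : Type*} [Group G] [Group H] (e : G ≃* H) (K : Subgroup G) :
    (K.map e.toMonoidHom).index = K.index :=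
  Subgroup.index_map_equiv K e

variable (hfin : Finite Cfsg.Spor.Th) (hle : Nat.card Cfsg.Spor.Th ≤ 90745943887872000)
  (hC : Subgroup.centralizer {gen .a} = CC)

include hfin hle hC in
/-- the presented group is the Thompson group -/
theorem isTh : Cfsg.IsTh Cfsg.Spor.Th :=
  ⟨isSimple hC (Cfsg.Agent.H40.Th.card_CC hfin), (Cfsg.Agent.H32.ThRep.card_eq hfin hle).1⟩

include hfin hle hC in
/-- the linear group of dimension 248 with the subgroups `³D₄(2):3` and `³D₄(2)` -/
theorem exists_linear (hH : Nat.card HH ≤ 634023936) (hi : HH.index ≤ 143127000) :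
    ∃ H : Subgroup (GL (Fin 248) (ZMod 3)), Cfsg.IsTh H ∧
      ∃ K : Subgroup H, K.index = 143127000 ∧ ∃ L : Subgroup H, L ≤ K ∧ Cfsg.Is3D4 L := by
  obtain ⟨hcard, hinj⟩ := Cfsg.Agent.H32.ThRep.card_eq hfin hle
  obtain ⟨hHH, hidx⟩ := Cfsg.Agent.H32.ThRep.card_and_index hfin hle hH hi
  let e := MonoidHom.ofInjective hinj
  refine ⟨Cfsg.Agent.H32.ThRep.rep248.range, ?_, HH.map e.toMonoidHom, ?_, LL.map e.toMonoidHom,
    Subgroup.map_mono LL_le_HH, ?_⟩
  · obtain ⟨hs, -⟩ := isTh hfin hle hC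
    have : Nontrivial Cfsg.Agent.H32.ThRep.rep248.range := e.symm.toEquiv.nontrivial
    exact ⟨IsSimpleGroup.isSimpleGroup_of_surjective e.toMonoidHom e.surjective,
      (Nat.card_congr e.toEquiv).symm.trans hcard⟩
  · rw [index_map_eq, hidx]
  · obtain ⟨hs, q, hq, hc⟩ := is3D4_LL hHH
    let f := LL.equivMapOfInjective e.toMonoidHom e.injective
    have : Nontrivial (LL.map e.toMonoidHom) := f.symm.toEquiv.nontrivial
    exact ⟨IsSimpleGroup.isSimpleGroup_of_surjective f.toMonoidHom f.surjective, q, hq,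
      (Nat.card_congr f.toEquiv).symm.trans hc⟩

end Cfsg.Agent.H67.Th
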