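import Cfsg.Agent.H41.CoSec.Simple
import Cfsg.Agent.H40.Th.Main
import Cfsg.Agent.H40.Th.Proper
import Cfsg.Agent.H40.Th.Glue
import Cfsg.Agent.H92.ExtraIso

/-!
Simplicity of the presented Thompson group from its involution centraliser: the involution `a` is
conjugate to `c`, whose normal closure in the centraliser is extraspecial with quotient `A₉`.
-/

set_option autoImplicit false

namespace Cfsg.Agent.H67.Th

open Cfsg.Agent.H40.Th
open Cfsg.Agent.H41.CoSec (Local)

local notation "A" => cg Cfsg.Spor.Th.Gen.a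
local notation "C" => cg Cfsg.Spor.Th.Gen.c
local notation "D" => cg Cfsg.Spor.Th.Gen.d

/-- the normal subgroup `2^(1+8)` of the centraliser inside Th -/
def QT : Subgroup Cfsg.Spor.Th := QQ.map CC.subtype

theorem exists_conj : ∃ g : Cfsg.Spor.Th, g * gen .a * g⁻¹ = gen .c := by
  have h0 := rel_getD 0
  have h1 := rel_getD 1
  have h2 := rel_getD 2
  have h5 := rel_getD 5
  have h7 := rel_getD 7
  simp only [Cfsg.Spor.Th.extra, List.getD_cons_zero, List.getD_cons_succ, map_mul, map_pow,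
    FreeGroup.lift_apply_of] at h0 h1 h2 h5 h7
  rw [pow_two] at h0 h1 h2
  have ia : (gen .a)⁻¹ = gen .a := inv_eq_of_mul_eq_one_right h0
  have ib : (gen .b)⁻¹ = gen .b := inv_eq_of_mul_eq_one_right h1
  have ic : (gen .c)⁻¹ = gen .c := inv_eq_of_mul_eq_one_right h2
  have key : ∀ {G : Type} [Group G] (x y : G), x⁻¹ = x → y⁻¹ = y → (x * y) ^ 3 = 1 →
      (x * y) * x * (x * y)⁻¹ = y := by
    intro G _ x y hx hy h
    have h' : x * y * x * y * x = y := by
      have e : x * y * x * y * x * y = 1 := by rw [← h]; simp only [pow_three, mul_assoc]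
      exact (eq_inv_of_mul_eq_one_left e).trans hy
    rw [mul_inv_rev, hx, hy, ← mul_assoc]
    exact h'
  refine ⟨(gen .b * gen .c) * (gen .a * gen .b), ?_⟩
  calc gen .b * gen .c * (gen .a * gen .b) * gen .a * (gen .b * gen .c * (gen .a * gen .b))⁻¹
      = (gen .b * gen .c) * ((gen .a * gen .b) * gen .a * (gen .a * gen .b)⁻¹) *
          (gen .b * gen .c)⁻¹ := by group
    _ = gen .c := by rw [key _ _ ia ib h5, key _ _ ib ic h7]

variable (hC : Subgroup.centralizer {gen .a} = CC) (hcard : Nat.card CC = 92897280)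

theorem A_ne_one : A ≠ 1 := fun h => gen_a_ne_one (congrArg Subtype.val h)

include hcard in
theorem card_QQ' : Nat.card QQ = 512 := card_QQ QQ_ne_top hcard

theorem A_mem_QQ : A ∈ QQ := by
  have h : (C * (D * C * D⁻¹)) * (C * (D * C * D⁻¹)) ∈ QQ := by
    have h1 : C * (D * C * D⁻¹) ∈ QQ :=
      QQ.mul_mem C_mem ((inferInstance : QQ.Normal).conj_mem C C_mem D)
    exact QQ.mul_mem h1 h1
  rw [inv_eq_of_mul_eq_one_right D_sq] at h
  rw [← CD_four]
  simp only [pow_succ, pow_zero, one_mul]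
  simpa only [mul_assoc] using h

theorem A_center_map : A ∈ (Subgroup.center QQ).map QQ.subtype :=
  ⟨⟨A, A_mem_QQ⟩, Subgroup.mem_center_iff.2 fun q => Subtype.ext (A_central q.1), rfl⟩

theorem C_ne : Nat.card CC = 92897280 → C ≠ 1 ∧ C ≠ A := by
  intro hcard
  have h512 := card_QQ QQ_ne_top hcard
  constructor <;> intro h
  · have : QQ = ⊥ := by
      rw [eq_bot_iff]; exact Subgroup.normalClosure_le_normal (by simp [h])
    rw [this, Subgroup.card_bot] at h512
    omega
  · have hn : (Subgroup.zpowers A).Normal := ⟨fun a ha g => by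
      obtain ⟨i, rfl⟩ := Subgroup.mem_zpowers_iff.1 ha
      rw [((show Commute g A from A_central g).zpow_right i).eq, mul_inv_cancel_right]
      exact ⟨i, rfl⟩⟩
    have hle : QQ ≤ Subgroup.zpowers A :=
      Subgroup.normalClosure_le_normal (by simp [h, Subgroup.mem_zpowers])
    have : Finite CC := Nat.finite_of_card_ne_zero (by omega)
    have h2 := Nat.le_of_dvd Nat.card_pos (Subgroup.card_dvd_of_le hle)
    rw [h512, Nat.card_zpowers] at h2
    have := Nat.le_of_dvd (by norm_num) (orderOf_dvd_of_pow_eq_one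
      (show A ^ 2 = 1 by rw [pow_two]; exact A_sq))
    omega

include hcard in
theorem centralizer_QQ_le : Subgroup.centralizer (QQ : Set CC) ≤ QQ := by
  have : Finite CC := Nat.finite_of_card_ne_zero (by omega)
  have hex := QQ_extraspecial QQ_ne_top hcard A_ne_one
  have hK : (Subgroup.centralizer (QQ : Set CC)).Normal := Subgroup.normal_centralizer
  obtain ⟨φ⟩ := quot_iso QQ_ne_top
  have hs : IsSimpleGroup (alternatingGroup (Fin 9)) := alternatingGroup.isSimpleGroup (by simp)
  let f : CC →* alternatingGroup (Fin 9) := φ.toMonoidHom.comp (QuotientGroup.mk' QQ)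
  have hf : Function.Surjective f := φ.surjective.comp (QuotientGroup.mk'_surjective QQ)
  have hker : f.ker = QQ :=
    (MonoidHom.ker_mulEquiv_comp _ φ).trans (QuotientGroup.ker_mk' QQ)
  rcases (Subgroup.Normal.map hK f hf).eq_bot_or_eq_top with h | h
  · exact ((Subgroup.map_eq_bot_iff _).1 h).trans hker.le
  · exfalso
    have hsup : Subgroup.centralizer (QQ : Set CC) ⊔ QQ = ⊤ := by
      rw [← hker, ← Subgroup.comap_map_eq, hker, h, Subgroup.comap_top]
    have hconj : ∀ g : CC, g * C * g⁻¹ * C = C * (g * C * g⁻¹) := by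
      intro g
      obtain ⟨k, hk, q, hq, rfl⟩ :=
        Subgroup.mem_sup_of_normal_right.1 (hsup ▸ Subgroup.mem_top g)
      have hqC : q * C * q⁻¹ ∈ QQ := QQ.mul_mem (QQ.mul_mem hq C_mem) (QQ.inv_mem hq)
      have he : k * q * C * (k * q)⁻¹ = q * C * q⁻¹ := by
        have := Subgroup.mem_centralizer_iff.1 hk _ hqC
        calc k * q * C * (k * q)⁻¹ = k * (q * C * q⁻¹) * k⁻¹ := by group
          _ = _ := by rw [← this]; group
      rw [he]
      rcases Cfsg.Agent.H92.comm_of_extraspecial hex A_center_map A_ne_one hq C_mem with e | e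
      · rw [mul_inv_eq_one] at e; rw [e]
      · rw [mul_inv_eq_iff_eq_mul] at e
        rw [e, mul_assoc, ← mul_assoc C, A_central C, mul_assoc]
    have hle : QQ ≤ Subgroup.centralizer ({C} : Set CC) :=
      (Subgroup.closure_le _).2 fun x hx => by
        obtain ⟨c, hc, hcx⟩ := Group.mem_conjugatesOfSet_iff.1 hx
        rw [Set.mem_singleton_iff] at hc
        subst hc
        obtain ⟨g, rfl⟩ := isConj_iff.1 hcx
        exact Subgroup.mem_centralizer_singleton_iff.2 (hconj g)
    have hz : C ∈ (Subgroup.center QQ).map QQ.subtype :=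
      ⟨⟨C, C_mem⟩, Subgroup.mem_center_iff.2 fun q =>
        Subtype.ext (Subgroup.mem_centralizer_singleton_iff.1 (hle q.2)), rfl⟩
    rcases Cfsg.Agent.H92.eq_one_or_center hex A_center_map A_ne_one hz with e | e
    · exact (C_ne hcard).1 e
    · exact (C_ne hcard).2 e

theorem mem_QT {x : Cfsg.Spor.Th} : x ∈ QT ↔ ∃ q ∈ QQ, (q : Cfsg.Spor.Th) = x := Iff.rfl

include hC hcard in
/-- the centraliser of `a` satisfies the hypotheses of the simplicity criterion -/
theorem local_setting [Finite Cfsg.Spor.Th] :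
    ∃ g, Local (gen .a) g QT := by
  obtain ⟨g, hg⟩ := exists_conj
  have ha : gen .a ≠ 1 := gen_a_ne_one
  have hCC : ∀ {c : Cfsg.Spor.Th}, c * gen .a = gen .a * c ↔ c ∈ CC := fun {c} => by
    rw [← hC, Subgroup.mem_centralizer_singleton_iff]
  have hex := QQ_extraspecial QQ_ne_top hcard A_ne_one
  refine ⟨g, ?_, ?_, ?_, ?_, ⟨A, A_mem_QQ, rfl⟩, ?_, ?_, ⟨C, C_mem, hg.symm⟩, ?_, ?_, ?_⟩
  · exact orderOf_eq_prime (by rw [pow_two]; exact congrArg Subtype.val A_sq) ha
  · exact Cfsg.Agent.H92.isExtraspecial_of_mulEquiv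
      (QQ.equivMapOfInjective CC.subtype CC.subtype_injective) hex
  · rw [QT, Subgroup.card_map_of_injective CC.subtype_injective, card_QQ QQ_ne_top hcard]
    norm_num
  · rintro _ ⟨q, -, rfl⟩
    exact congrArg Subtype.val (A_central q)
  · intro c hc
    have hcC : c ∈ CC := hCC.1 (hc _ ⟨A, A_mem_QQ, rfl⟩).symm
    have hk : (⟨c, hcC⟩ : CC) ∈ Subgroup.centralizer (QQ : Set CC) :=
      Subgroup.mem_centralizer_iff.2 fun q hq => Subtype.ext (hc _ ⟨q, hq, rfl⟩)
    have hz : (⟨c, hcC⟩ : CC) ∈ (Subgroup.center QQ).map QQ.subtype :=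
      ⟨⟨⟨c, hcC⟩, centralizer_QQ_le hcard hk⟩, Subgroup.mem_center_iff.2 fun q =>
        Subtype.ext (Subgroup.mem_centralizer_iff.1 hk q q.2), rfl⟩
    rcases Cfsg.Agent.H92.eq_one_or_center hex A_center_map A_ne_one hz with e | e
    · exact Or.inl (congrArg Subtype.val e)
    · exact Or.inr (congrArg Subtype.val e)
  · rintro c hc _ ⟨q, hq, rfl⟩
    exact ⟨⟨c, hCC.1 hc⟩ * q * (⟨c, hCC.1 hc⟩ : CC)⁻¹,
      (inferInstance : QQ.Normal).conj_mem q hq _, rfl⟩
  · rw [hg]
    intro e
    exact (C_ne hcard).2 (Subtype.ext e)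
  · intro W _ hgD hD
    rintro _ ⟨q, hq, rfl⟩
    have hn : (W.comap CC.subtype).Normal :=
      ⟨fun d hd c => hD c (hCC.2 c.2) d hd⟩
    have hle : QQ ≤ W.comap CC.subtype := Subgroup.normalClosure_le_normal (by
      rintro _ rfl
      show ((C : CC) : Cfsg.Spor.Th) ∈ W
      rw [hg] at hgD
      exact hgD)
    exact hle hq
  · intro N hQN hNC hN
    rw [hC] at hNC ⊢
    obtain ⟨φ⟩ := quot_iso QQ_ne_top
    have hs : IsSimpleGroup (alternatingGroup (Fin 9)) := alternatingGroup.isSimpleGroup (by simp)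
    let f : CC →* alternatingGroup (Fin 9) := φ.toMonoidHom.comp (QuotientGroup.mk' QQ)
    have hf : Function.Surjective f := φ.surjective.comp (QuotientGroup.mk'_surjective QQ)
    have hker : f.ker = QQ :=
      (MonoidHom.ker_mulEquiv_comp _ φ).trans (QuotientGroup.ker_mk' QQ)
    have hn : (N.comap CC.subtype).Normal := ⟨fun d hd c => hN c (hCC.2 c.2) d hd⟩
    have hQle : QQ ≤ N.comap CC.subtype := fun q hq => hQN ⟨q, hq, rfl⟩
    have hmap : N.comap CC.subtype = (N.comap CC.subtype) ⊔ f.ker :=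
      (sup_eq_left.2 (hker.le.trans hQle)).symm
    rw [← Subgroup.comap_map_eq] at hmap
    rcases (Subgroup.Normal.map hn f hf).eq_bot_or_eq_top with h | h <;> rw [h] at hmap
    · left
      rw [MonoidHom.comap_bot, hker] at hmap
      rw [QT, ← hmap, Subgroup.map_comap_eq, Subgroup.range_subtype, inf_eq_right.2 hNC]
    · right
      rw [Subgroup.comap_top] at hmap
      refine le_antisymm hNC fun x hx => ?_
      exact (hmap ▸ Subgroup.mem_top (⟨x, hx⟩ : CC) : (⟨x, hx⟩ : CC) ∈ N.comap CC.subtype)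

include hC hcard in
theorem isSimple [Finite Cfsg.Spor.Th] : IsSimpleGroup Cfsg.Spor.Th := by
  obtain ⟨g, L⟩ := local_setting hC hcard
  exact L.isSimpleGroup

end Cfsg.Agent.H67.Th
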