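import Mathlib.Data.Nat.Notation

/-!
Certificates for the primitivity of `³D₄(2)` on 819 points.
-/

set_option autoImplicit false

namespace Cfsg.Agent.H67.Th

/-- for each point a word in `d, e, s, s⁻¹, a, c` leading to an orbit representative -/
def backW : List (List ℕ) := [[],
  [],
  [6],
  [7],
  [0,7],
  [1,0,7],
  [7,1,0,7],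
  [0,7,1,0,7],
  [0,7,1,0,7,6],
  [0,1,0],
  [7,0,1,0],
  [7,6,0,1,0],
  [7,6,0,1],
  [1,0,7,3,1,0,7,2,1,0,7,1,3,1,0,7],
  [0,7,3,1,0,7,2,1,0,7,1,3,1,0,7],
  [7,3,1,0,7,2,1,0,7,1,3,1,0,7],
  [7,2,1,0,7,3,3,1,0,7,2,1,0,7],
  [7,0,1],
  [0,1],
  [1],
  [],
  [7,0,7],
  [7,6],
  [0,7,6],
  [7,0,7,6],
  [3,1,0,7],
  [7,3,1,0,7],
  [0,7,3,1,0,7],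
  [1,0,7,3,1,0,7],
  [3,1,0,7,3,1,0,7],
  [7,3,1,0,7,3,1,0,7],
  [0,7,3,1,0,7,3,1,0,7],
  [1,0,7,3,1,0,7,3,1,0,7],
  [3,1,0,7,3,1,0,7,3,1,0,7],
  [7,3,1,0,7,3,1,0,7,3,1,0,7],
  [0,7,3,1,0,7,3,1,0,7,3,1,0,7],
  [1,0,7,3,1,0,7,3,1,0,7,3,1,0,7],
  [],
  [1,0,7,6],
  [1,0],
  [7,1,0],
  [7,0],
  [7,0],
  [0],
  [7,1,0,7,6],
  [1,0],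
  [7,1,0],
  [0],
  [3,1,0,7,6],
  [7,3,1,0,7,6],
  [0,7,3,1,0,7,6],
  [1,0,7,3,1,0,7,6],
  [3,1,0,7,3,1,0,7,6],
  [7,3,1,0,7,3,1,0,7,6],
  [0,7,3,1,0,7,3,1,0,7,6],
  [1,0,7,3,1,0,7,3,1,0,7,6],
  [3,1,0,7,3,1,0,7,3,1,0,7,6],
  [7,3,1,0,7,3,1,0,7,3,1,0,7,6],
  [0,7,3,1,0,7,3,1,0,7,3,1,0,7,6],
  [1,0,7,3,1,0,7,3,1,0,7,3,1,0,7,6],
  [7,0,7,3,1,0,7,3,1,0,7],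
  [7,1,0,7,3,1,0,7,3,1,0,7],
  [0,7,1,0,7,3,1,0,7,3,1,0,7],
  [7,0,7,1,0,7,3,1,0,7,3,1,0,7],
  [2,1,0,7],
  [3,3,1,0,7],
  [2,1,0,7,6],
  [3,3,1,0,7,6],
  [1,3,1,0,7,6],
  [7,1,3,1,0,7,6],
  [0,7,1,3,1,0,7,6],
  [1,0,7,1,3,1,0,7,6],
  [2,1,0,7,3,1,0,7],
  [7,2,1,0,7,3,1,0,7],
  [0,7,2,1,0,7,3,1,0,7],
  [7,0,7,2,1,0,7,3,1,0,7],
  [7,1,0,7,2,1,0,7,3,1,0,7],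
  [0,7,1,0,7,2,1,0,7,3,1,0,7],
  [7,0,7,1,0,7,2,1,0,7,3,1,0,7],
  [7,0,7,3,1,0,7,2,1,0,7,3,1,0,7],
  [0,7,3,1,0,7,2,1,0,7,3,1,0,7,6],
  [7,3,1,0,7,2,1,0,7,3,1,0,7,6],
  [3,1,0,7,2,1,0,7,3,1,0,7,6],
  [1,0,7,2,1,0,7,3,1,0,7,6],
  [0,7,2,1,0,7,3,1,0,7,6],
  [7,2,1,0,7,3,1,0,7,6],
  [2,1,0,7,3,1,0,7,6],
  [1,0,7,1,3,1,0,7],
  [0,7,1,3,1,0,7],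
  [7,1,3,1,0,7],
  [1,3,1,0,7],
  [7,0,7,1,0,7,6],
  [7,0,7,1,0,7],
  [0,1,3,1,0,7],
  [2,2,1,0,7],
  [7,2,1,0,7],
  [0,7,2,1,0,7,6],
  [7,0,7,2,1,0,7,6],
  [7,0,7,3,1,0,7],
  [7,1,0,7,3,1,0,7],
  [2,1,0,7,1,3,1,0,7],
  [3,3,1,0,7,2,1,0,7],
  [2,1,0,7,3,3,1,0,7,6],
  [7,2,1,0,7,3,3,1,0,7,6],
  [0,7,2,1,0,7,3,3,1,0,7,6],
  [0,7,0,7,3,1,0,7,2,1,0,7],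
  [1,0,7,0,7,3,1,0,7,2,1,0,7],
  [1,0,7,1,0,7,3,1,0,7,2,1,0,7],
  [7,1,0,7,1,0,7,3,1,0,7,2,1,0,7],
  [1,0,7,3,1,0,7,3,1,0,7,2,1,0,7],
  [0,7,3,1,0,7,3,1,0,7,2,1,0,7],
  [7,3,1,0,7,3,1,0,7,2,1,0,7],
  [3,1,0,7,3,1,0,7,2,1,0,7],
  [1,0,7,3,1,0,7,2,1,0,7],
  [0,7,3,1,0,7,2,1,0,7],
  [7,3,1,0,7,2,1,0,7],
  [3,1,0,7,2,1,0,7],
  [1,0,7,2,1,0,7],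
  [0,7,2,1,0,7],
  [6,1,0],
  [6,1],
  [3,1,0,7,2,1,0,7,1,3,1,0,7],
  [6,0,1],
  [6],
  [6,0],
  [7,6,0],
  [0,7,6,0],
  [0,7,0],
  [7,3,3,1,0,7],
  [7,0,1,3,1,0,7],
  [7,2,2,1,0,7],
  [7,2,1,0,7,6],
  [2,1],
  [7,0,7,1,3,1,0,7,6],
  [7,1,0,7,1,3,1,0,7,6],
  [0,7,1,0,7,1,3,1,0,7,6],
  [0,7,0,7,1,0,7,3,1,0,7],
  [0,7,3,3,1,0,7],
  [6,0,1,0],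
  [2,1,0,7,3,3,1,0,7,2,1,0,7],
  [0,7,0,1],
  [0,7,6,0,1],
  [1,0,7,2,1,0,7,3,3,1,0,7,2,1,0,7],
  [0,7,2,1,0,7,3,3,1,0,7,2,1,0,7,6],
  [7,2,1,0,7,3,3,1,0,7,2,1,0,7,6],
  [3,1,0,7,0,7,3,1,0,7,3,1,0,7],
  [2,1,0,7,1,0,7,3,1,0,7,3,1,0,7],
  [1,2,1,0,7,1,0,7,3,1,0,7,3,1,0,7],
  [7,0,7,2,1,0,7,3,3,1,0,7,2,1,0,7],
  [0,7,2,1,0,7,3,3,1,0,7,2,1,0,7],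
  [0,7,2,2,1,0,7],
  [0,7,0,1,3,1,0,7],
  [2,0,1],
  [7,0,7,2,1,0,7],
  [7,1,0,7,2,1,0,7],
  [0,7,1,0,7,2,1,0,7],
  [7,0,7,1,0,7,2,1,0,7],
  [7,0,7,3,1,0,7,2,1,0,7],
  [7,1,0,7,3,1,0,7,2,1,0,7],
  [0,7,1,0,7,3,1,0,7,2,1,0,7],
  [7,0,7,1,0,7,3,1,0,7,2,1,0,7],
  [7,0,7,3,1,0,7,3,1,0,7,2,1,0,7],
  [0,7,2,1,0,7,3,1,0,7,3,1,0,7,6],
  [7,2,1,0,7,3,1,0,7,3,1,0,7,6],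
  [2,1,0,7,3,1,0,7,3,1,0,7,6],
  [1,0,7,2,1,0,7,3,3,1,0,7,6],
  [0,7,2,2,1,0,7,6],
  [0,7,0,1,3,1,0,7,6],
  [0,7,3,3,1,0,7,6],
  [2,0,1,0],
  [7,0,7,3,1,0,7,6],
  [7,3,3,1,0,7,6],
  [0,1,3,1,0,7,6],
  [2,2,1,0,7,6],
  [7,1,0,7,2,1,0,7,6],
  [0,7,1,0,7,2,1,0,7,6],
  [7,0,7,1,0,7,2,1,0,7,6],
  [7,0,7,3,1,0,7,2,1,0,7,6],
  [7,1,0,7,3,1,0,7,2,1,0,7,6],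
  [0,7,1,0,7,3,1,0,7,2,1,0,7,6],
  [7,0,7,1,0,7,3,1,0,7,2,1,0,7,6],
  [1,0,7,2,1,0,7,3,1,0,7,3,1,0,7],
  [0,7,2,1,0,7,3,1,0,7,3,1,0,7],
  [7,2,1,0,7,3,1,0,7,3,1,0,7],
  [2,1,0,7,3,1,0,7,3,1,0,7],
  [1,0,7,2,1,0,7,3,3,1,0,7],
  [0,7,2,1,0,7,3,3,1,0,7],
  [7,2,1,0,7,3,3,1,0,7],
  [2,1,0,7,3,3,1,0,7],
  [3,3,1,0,7,2,1,0,7,6],
  [2,1,0,7,1,3,1,0,7,6],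
  [7,6,1,0],
  [3,0,1,0],
  [3,3,0,1,0],
  [3,3,3,0,1,0],
  [0,1,3,1,0],
  [2,2,0,1,0],
  [6,2,0,1,0],
  [7,2,0,1,0],
  [2,1,0],
  [1,2,0,1],
  [2,1,2,0,1],
  [0,1,2,0,1,0],
  [7,6,3,0,1],
  [6,3,0,1],
  [6,2,1],
  [6,3,3,1],
  [6,1,3,1],
  [6,0,1,3,1],
  [6,0,1,2,0,1],
  [6,2,1,2,0,1,0],
  [2,1,0,7,3,0,1,0],
  [7,6,2,0,1,2,0,1],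
  [6,2,0,1,2,0,1],
  [6,3,3,1,3,0,1],
  [6,3,3,1,3,0,1,0],
  [0,7,2,1,3,0,1,0],
  [0,7,1,3,0,1,0],
  [1,0,7,1,3,0,1,0],
  [1,0,7,3,0,1,0],
  [6,1,2,0,1,0],
  [6,1,2,1,2,0,1,0],
  [6,2,2,1,3,3,0,1,0],
  [0,7,1,3,0,1,3,0,1],
  [7,6,1,3,0,1,3,0,1],
  [7,6,3,0,1,3,0,1],
  [7,2,0,1,3,0,1],
  [2,0,1,3,0,1],
  [3,3,1,3,0,1,0],
  [2,0,1,2,0,1,0],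
  [1,2,0,1,0],
  [0,7,0],
  [7,3,0,1,0],
  [7,3,3,0,1,0],
  [7,3,3,3,0,1,0],
  [7,0,1,3,1,0],
  [7,2,2,0,1,0],
  [0,7,3,0,1,0],
  [7,1,0,7,2,1,0,7,1,3,1,0,7],
  [7,2,0,1],
  [7,1,2,0,1],
  [7,2,1,2,0,1],
  [7,0,1,2,0,1,0],
  [7,6,3,1,0],
  [6,3,1,0],
  [6,1,3,1,3,0,1,0],
  [6,3,3,1,2,0,1,0],
  [6,2,1,3,3,0,1,0],
  [6,1,2,0,1,3,0,1],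
  [3,1,0,7,0,1,3,1,0],
  [1,0,7,0,1,3,1,0],
  [0,7,0,1,3,1,0],
  [3,1,3,3,0,1],
  [1,3,3,0,1,0],
  [7,1,3,3,0,1,0],
  [7,2,1,3,3,0,1,0],
  [7,3,3,1,2,0,1,0],
  [0,7,1,2,0,1,0],
  [7,1,2,0,1,0],
  [7,6,3,0,1,0],
  [7,6,3,3,0,1,0],
  [7,6,0,1,3,1,0],
  [0,7,3,3,0,1,0],
  [0,7,1,2,1,0,7,3,1,0,7,3,1,0,7,6],
  [7,6,2,0,1],
  [7,6,1,2,0,1],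
  [0,7,3,1,2,0,1],
  [7,6,0,1,2,0,1,0],
  [7,3,1,0],
  [3,1,0],
  [1,3,1,3,0,1,0],
  [3,3,1,2,0,1,0],
  [2,1,3,3,0,1,0],
  [1,2,0,1,3,0,1],
  [7,1,2,0,1,3,0,1],
  [7,3,1,3,3,0,1],
  [6,0,1,3,1,0],
  [6,3,3,3,0,1,0],
  [6,3,1,3,3,0,1],
  [6,1,3,3,0,1,0],
  [7,6,1,3,3,0,1,0],
  [0,7,1,2,1,2,0,1],
  [2,1,0,7,1,3,0,1,0],
  [7,6,3,3,0,1],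
  [7,6,3,3,3,0,1],
  [7,6,0,1,3,1],
  [7,6,2,2,0,1],
  [7,0,7,1,2,1,0,7,3,1,0,7,3,1,0,7,6],
  [6,2,0,1],
  [0,7,6,3,0,1],
  [7,6,0,1,2,0,1],
  [7,6,2,1,0],
  [7,6,3,3,1,0],
  [7,6,1,3,1,0],
  [6,1,3,1,0],
  [7,3,3,1,2,0,1],
  [3,3,1,2,0,1],
  [3,1,2,0,1],
  [3,1,2,0,1,0],
  [7,2,0,1,2,0,1,0],
  [7,1,3,1,3,0,1],
  [7,3,1,3,0,1],
  [7,2,1,3,0,1],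
  [2,1,3,0,1],
  [2,2,1,3,0,1],
  [1,2,2,1,3,0,1],
  [1,3,0,1,3,0,1],
  [7,1,3,0,1,3,0,1],
  [7,1,2,1,2,0,1],
  [7,0,7,1,0,7,2,1,0,7,1,3,1,0,7],
  [7,0,7,1,0,7,2,2,1,0,7,2,1,0,7],
  [1,0,7,2,1,0,7,2,1,0,7,2,1,0,7],
  [0,7,0,7,1,0,7,2,1,0,7,3,1,0,7],
  [0,7,0,7,3,1,0,7,2,1,0,7,3,1,0,7],
  [7,0,7,1,2,1,0,7,3,1,0,7,3,1,0,7],
  [7,0,7,1,0,7,3,3,1,0,7,2,1,0,7,6],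
  [0,7,0,7,3,1,0,7,3,1,0,7,2,1,0,7],
  [0,7,0,7,1,0,7,3,1,0,7,2,1,0,7],
  [7,0,7,2,1,0,7,3,1,0,7,2,1,0,7],
  [7,1,0,7,3,3,1,0,7,2,1,0,7],
  [1,0,7,3,3,1,0,7,2,1,0,7],
  [1,0,7,2,1,0,7,1,3,1,0,7],
  [0,7,2,1,0,7,1,3,1,0,7],
  [0,7,1,3,1,0,7,2,1,0,7,6],
  [7,0,7,1,3,1,0,7,2,1,0,7,6],
  [7,0,7,3,3,1,0,7,3,1,0,7,6],
  [7,1,0,7,3,3,1,0,7,3,1,0,7,6],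
  [7,2,2,1,0,7,2,1,0,7,2,1,0,7],
  [2,2,1,0,7,2,1,0,7,2,1,0,7],
  [2,1,0,7,2,1,0,7,2,2,1,0,7,6],
  [7,2,1,0,7,2,1,0,7,2,2,1,0,7,6],
  [7,2,1,0,7,2,1,0,7,3,3,1,0,7],
  [0,7,2,1,0,7,2,1,0,7,3,3,1,0,7],
  [7,0,7,2,1,0,7,2,1,0,7,3,3,1,0,7],
  [7,0,7,1,0,7,2,1,0,7,3,3,1,0,7],
  [7,0,7,1,0,7,1,3,1,0,7,2,1,0,7],
  [0,7,1,0,7,1,3,1,0,7,2,1,0,7],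
  [0,7,2,1,0,7,3,1,0,7,2,1,0,7,6],
  [0,7,1,0,7,1,2,1,0,7,3,1,0,7],
  [7,1,0,7,1,2,1,0,7,3,1,0,7],
  [1,0,7,1,2,1,0,7,3,1,0,7],
  [2,1,0,7,1,2,1,0,7,3,1,0,7],
  [3,1,0,7,3,3,1,0,7,3,1,0,7],
  [2,1,0,7,2,1,0,7,2,2,1,0,7],
  [7,2,1,0,7,2,1,0,7,2,2,1,0,7],
  [7,3,1,0,7,2,1,0,7,2,1,0,7],
  [7,1,3,1,0,7,2,1,0,7,2,1,0,7],
  [7,2,1,0,7,1,3,1,0,7,2,1,0,7,6],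
  [0,7,2,1,0,7,1,3,1,0,7,2,1,0,7,6],
  [3,1,0,7,2,1,0,7,1,3,1,0,7,6],
  [2,1,0,7,3,3,1,0,7,2,1,0,7,6],
  [0,7,1,0,7,2,1,0,7,1,3,1,0,7],
  [0,7,1,0,7,2,2,1,0,7,2,1,0,7],
  [0,7,2,1,0,7,2,2,1,0,7,2,1,0,7],
  [0,7,1,0,7,1,2,1,0,7,3,1,0,7,6],
  [0,7,2,1,0,7,1,2,1,0,7,3,1,0,7,6],
  [0,7,1,2,1,0,7,3,1,0,7,3,1,0,7],
  [0,7,1,0,7,1,3,1,0,7,2,1,0,7,6],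
  [0,7,2,1,0,7,3,1,0,7,2,1,0,7],
  [0,7,3,3,1,0,7,2,1,0,7,3,1,0,7,6],
  [1,0,7,3,3,1,0,7,2,1,0,7,3,1,0,7],
  [0,7,2,1,0,7,1,3,1,0,7,2,1,0,7],
  [0,7,1,3,1,0,7,2,1,0,7,2,1,0,7,6],
  [1,0,7,1,3,1,0,7,2,1,0,7,2,1,0,7,6],
  [1,0,7,3,1,0,7,2,1,0,7,2,1,0,7,6],
  [0,7,3,1,0,7,2,1,0,7,2,1,0,7,6],
  [0,7,1,0,7,2,1,0,7,2,1,0,7,6],
  [7,0,7,1,0,7,2,1,0,7,2,1,0,7,6],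
  [0,7,1,0,7,3,1,0,7,3,3,1,0,7],
  [7,1,0,7,3,1,0,7,3,3,1,0,7],
  [1,0,7,3,1,0,7,3,3,1,0,7],
  [2,1,0,7,3,1,0,7,3,3,1,0,7],
  [3,3,1,0,7,3,1,0,7,2,1,0,7,6],
  [1,3,1,0,7,2,1,0,7,2,1,0,7],
  [7,3,3,1,0,7,3,1,0,7,2,1,0,7],
  [7,2,1,0,7,2,2,1,0,7,2,1,0,7],
  [7,0,7,1,0,7,2,1,0,7,2,1,0,7],
  [0,7,1,0,7,2,1,0,7,2,1,0,7],
  [0,7,3,1,0,7,2,1,0,7,2,1,0,7],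
  [1,0,7,3,1,0,7,2,1,0,7,2,1,0,7],
  [7,1,2,1,0,7,3,1,0,7,3,1,0,7,6],
  [7,2,1,0,7,1,2,1,0,7,3,1,0,7,6],
  [7,1,0,7,1,2,1,0,7,3,1,0,7,6],
  [7,1,0,7,2,2,1,0,7,2,1,0,7],
  [1,0,7,0,7,3,1,0,7,3,1,0,7],
  [7,3,3,1,0,7,2,1,0,7,3,1,0,7,6],
  [1,2,1,0,7,3,1,0,7,3,1,0,7,6],
  [1,0,7,1,3,1,0,7,2,1,0,7,2,1,0,7],
  [0,7,1,3,1,0,7,2,1,0,7,2,1,0,7],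
  [7,3,1,0,7,3,3,1,0,7,3,1,0,7],
  [7,2,1,0,7,1,2,1,0,7,3,1,0,7],
  [0,7,2,1,0,7,1,2,1,0,7,3,1,0,7],
  [7,0,7,2,1,0,7,1,2,1,0,7,3,1,0,7],
  [7,0,7,1,0,7,1,2,1,0,7,3,1,0,7],
  [7,0,7,2,1,0,7,3,1,0,7,2,1,0,7,6],
  [0,7,1,0,7,2,1,0,7,3,3,1,0,7],
  [7,1,0,7,2,1,0,7,3,3,1,0,7],
  [2,1,0,7,2,1,0,7,3,3,1,0,7],
  [7,0,7,3,1,0,7,3,1,0,7,6],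
  [7,0,7,2,1,0,7,1,3,1,0,7],
  [7,3,1,0,7,3,3,1,0,7,2,1,0,7],
  [7,2,1,0,7,2,1,0,7,3,1,0,7,6],
  [7,1,0,7,2,1,0,7,3,1,0,7,6],
  [7,3,3,1,0,7,2,1,0,7,3,1,0,7],
  [3,3,1,0,7,2,1,0,7,3,1,0,7,6],
  [0,7,1,0,7,3,3,1,0,7,2,1,0,7],
  [7,0,7,1,0,7,1,3,1,0,7],
  [7,0,7,2,1,0,7,3,1,0,7,6],
  [1,0,7,1,0,7,3,1,0,7,3,1,0,7],
  [7,1,0,7,1,0,7,3,1,0,7,3,1,0,7],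
  [7,0,7,1,0,7,3,3,1,0,7,2,1,0,7],
  [7,0,7,1,0,7,3,3,1,0,7,3,1,0,7,6],
  [7,0,7,1,0,7,2,1,0,7,2,2,1,0,7],
  [0,7,1,0,7,2,1,0,7,2,2,1,0,7],
  [0,7,1,0,7,3,3,1,0,7,3,1,0,7,6],
  [7,3,0,1],
  [7,3,3,0,1],
  [7,3,3,3,0,1],
  [7,0,1,3,1],
  [7,2,2,0,1],
  [0,7,3,0,1],
  [7,2,1,2,0,1,0],
  [7,0,1,2,0,1],
  [7,2,1,0],
  [7,3,3,1,0],
  [7,1,3,1,0],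
  [1,3,1,0],
  [0,7,0,1,2,0,1,0],
  [6,3,3,1,2,0,1],
  [6,3,1,2,0,1],
  [6,3,1,2,0,1,0],
  [6,2,0,1,2,0,1,0],
  [0,7,1,3,1,3,0,1],
  [7,6,1,3,1,3,0,1],
  [7,6,3,1,3,0,1],
  [7,6,2,1,3,0,1],
  [6,2,1,3,0,1],
  [6,2,2,1,3,0,1],
  [6,1,2,2,1,3,0,1],
  [6,1,3,0,1,3,0,1],
  [1,0,7,3,1,2,0,1],
  [3,0,1],
  [3,3,0,1],
  [3,3,3,0,1],
  [0,1,3,1],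
  [2,2,0,1],
  [2,1,2,0,1,0],
  [0,1,2,0,1],
  [0,7,6,2,0,1],
  [0,7,2,0,1],
  [7,3,1,2,0,1],
  [2,0,1,2,0,1],
  [3,3,1,3,0,1],
  [2,0,1,3,0,1,0],
  [7,2,0,1,3,0,1,0],
  [7,0,1,3,0,1,0],
  [0,1,3,0,1,0],
  [3,3,1,0],
  [7,3,1,3,1,0],
  [3,1,3,1,0],
  [3,1],
  [3,3,1],
  [1,3,1],
  [3,1,3,1],
  [2,2,1],
  [3,1,0,7,3,0,1,0],
  [6,2,0,1,3,0,1],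
  [0,7,3,0,1,3,0,1],
  [7,3,0,1,3,0,1],
  [3,0,1,3,0,1],
  [7,1,2,2,1,3,0,1],
  [7,1,2,1,2,0,1,0],
  [7,2,0,1,2,0,1],
  [3,1,3,0,1,0],
  [7,3,3,1,3,0,1],
  [7,6,3,1,2,0,1],
  [0,7,1,0,7,3,1,0,7],
  [7,0,7,1,0,7,3,1,0,7],
  [7,1,0,7,3,1,0,7,3,1,0,7,6],
  [0,7,1,0,7,3,1,0,7,3,1,0,7,6],
  [7,0,7,1,0,7,3,1,0,7,3,1,0,7,6],
  [0,7,1,0,7,2,1,0,7,3,1,0,7,6],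
  [7,0,7,1,0,7,2,1,0,7,3,1,0,7,6],
  [1,0,7,3,1,0,7,2,1,0,7,3,1,0,7],
  [0,7,3,1,0,7,2,1,0,7,3,1,0,7],
  [7,3,1,0,7,2,1,0,7,3,1,0,7],
  [3,1,0,7,2,1,0,7,3,1,0,7],
  [1,0,7,2,1,0,7,3,1,0,7],
  [7,1,0,7,3,1,0,7,6],
  [0,7,1,0,7,3,1,0,7,6],
  [7,0,7,1,0,7,3,1,0,7,6],
  [3,1,0],
  [7,1,3,0,1,0],
  [1,3,0,1,0],
  [7,0,7,3,3,1,0,7,6],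
  [7,0,7,2,2,1,0,7],
  [7,1,0,7,2,2,1,0,7],
  [0,7,1,2,2,1,0,7,2,1,0,7],
  [7,0,7,1,2,2,1,0,7,2,1,0,7],
  [6,3,1],
  [7,0,7,2,1,0,7,3,3,1,0,7],
  [3,1,0,7,0,7,1,3,1,0,7],
  [2,1,0,7,1,0,7,1,3,1,0,7],
  [7,2,1,0,7,1,0,7,1,3,1,0,7],
  [7,0,7,2,1,0,7,2,2,1,0,7],
  [7,1,0,7,2,1,0,7,2,2,1,0,7],
  [7,2,2,1,3,3,0,1,0],
  [2,2,1,3,3,0,1,0],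
  [1,2,1,2,0,1,0],
  [7,0,7,1,3,1,0,7],
  [7,0,1,3,1,0,7,6],
  [7,0,7,3,3,1,0,7,2,1,0,7,3,1,0,7],
  [0,7,3,3,1,0,7,2,1,0,7,3,1,0,7],
  [7,2,1,0,7,1,3,1,0,7,2,1,0,7],
  [1,0,7,1,2,1,0,7,3,1,0,7,3,1,0,7],
  [7,1,3,1,0,7,2,1,0,7,6],
  [1,3,1,0,7,2,1,0,7,6],
  [3,3,1,0,7,3,1,0,7],
  [2,1,0,7,2,2,1,0,7],
  [2,1,3,3,0,1],
  [7,2,1,3,3,0,1],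
  [1,0,7,1,2,1,0,7,3,1,0,7,6],
  [7,1,0,7,1,3,1,0,7],
  [7,0,7,3,3,1,0,7],
  [1,2,1,0,7,3,1,0,7],
  [3,1,0,7,0,1,3,1,0,7],
  [1,0,7,0,1,3,1,0,7],
  [7,0,7,0,1,3,1,0,7],
  [7,3,1,0,7,2,1,0,7,6],
  [3,1,0,7,2,1,0,7,6],
  [7,1,2,1,0,7,3,1,0,7],
  [0,7,1,2,1,0,7,3,1,0,7],
  [7,2,1,0,7,3,1,0,7,3,3,1,0,7],
  [0,7,2,1,0,7,3,1,0,7,3,3,1,0,7],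
  [1,0,7,2,1,0,7,2,1,0,7,2,1,0,7,6],
  [0,7,2,1,0,7,2,1,0,7,2,1,0,7,6],
  [7,2,1,0,7,2,1,0,7,2,1,0,7,6],
  [2,1,0,7,2,1,0,7,2,1,0,7,6],
  [1,0,7,2,1,0,7,6],
  [2,1,0,7,2,1,0,7,6],
  [2,1,0,7,2,1,0,7],
  [1,0,7,3,3,1,0,7],
  [6,1,2,0,1],
  [2,1,0,7,1,3,1,0,7,2,1,0,7,6],
  [1,3,1,0,7,2,1,0,7],
  [3,1,0,7,2,2,1,0,7],
  [0,1,3,3,0,1],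
  [7,1,0,7,0,1,3,1,0,7],
  [1,0,7,2,2,1,0,7],
  [0,7,2,1,0,7,2,1,0,7,6],
  [7,0,7,2,1,0,7,2,1,0,7,6],
  [7,0,7,3,1,0,7,3,3,1,0,7],
  [1,0,7,2,1,0,7,1,3,1,0,7,6],
  [1,0,7,3,3,1,0,7,2,1,0,7,6],
  [0,7,3,3,1,0,7,2,1,0,7,6],
  [0,7,3,1,0,7,2,1,0,7,6],
  [1,2,1,0,7,1,0,7,1,3,1,0,7],
  [7,1,2,1,0,7,1,0,7,1,3,1,0,7],
  [3,1,0,7,2,1,0,7,2,1,0,7],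
  [1,0,7,2,1,0,7,2,1,0,7],
  [0,7,2,1,0,7,2,1,0,7],
  [7,2,1,0,7,2,1,0,7],
  [2,2,1,0,7,2,1,0,7],
  [1,2,2,1,0,7,2,1,0,7],
  [0,1,2,1,0,7,3,1,0,7],
  [7,1,0,7,1,3,1,0,7,2,1,0,7,6],
  [1,0,7,1,3,1,0,7,2,1,0,7,6],
  [7,2,1,0,7,1,3,1,0,7,6],
  [0,7,2,1,0,7,1,3,1,0,7,6],
  [0,7,0,7,3,1,0,7,3,1,0,7],
  [7,0,7,1,2,1,0,7,1,0,7,1,3,1,0,7],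
  [7,6,2,2,1,3,0,1],
  [6,2,1,3,0,1,0],
  [7,6,2,1,3,0,1,0],
  [7,3,3,1,3,0,1,0],
  [2,1,0,7,1,3,1,0,7,2,1,0,7],
  [3,3,1,0,7,2,1,0,7,3,1,0,7],
  [0,1,2,1,0,7,3,1,0,7,6],
  [7,0,1,2,1,0,7,3,1,0,7,6],
  [1,2,1,0,7,3,1,0,7,6],
  [2,1,0,7,2,2,1,0,7,6],
  [0,7,1,3,1,0,7,2,1,0,7],
  [1,0,7,1,3,1,0,7,2,1,0,7],
  [1,0,7,3,1,0,7,2,1,0,7,6],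
  [7,2,1,0,7,1,3,1,0,7],
  [6,1,2,1,2,0,1],
  [6,2,2,1,3,3,0,1],
  [7,6,2,2,1,3,3,0,1],
  [3,1,0,7,1,0,7,3,1,0,7,2,1,0,7],
  [7,3,1,0,7,1,0,7,3,1,0,7,2,1,0,7],
  [1,0,7,2,1,0,7,1,2,1,0,7,3,1,0,7,6],
  [6,2,2,0,1,0],
  [6,3,3,1,0],
  [6,2,1,0],
  [6,1,3,0,1],
  [6,1,3,0,1,0],
  [7,6,1,3,0,1,0],
  [7,3,1,3,0,1,0],
  [7,3,3,1,0,7,3,1,0,7],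
  [7,1,3,1,0,7,2,1,0,7],
  [0,7,3,3,1,0,7,3,1,0,7],
  [7,2,1,0,7,2,1,0,7,6],
  [7,0,1,2,1,0,7,3,1,0,7],
  [1,0,7,2,1,0,7,2,2,1,0,7],
  [0,7,0,1,2,1,0,7,3,1,0,7,6],
  [7,2,1,0,7,2,2,1,0,7,6],
  [0,7,3,1,0,7,3,1,0,7,2,1,0,7,6],
  [7,2,2,1,0],
  [7,0,1,3,1,0],
  [0,1,3,1,0],
  [1,3,1,0],
  [0,7,3,3,1,0,7,3,1,0,7,6],
  [2,1,0,7,3,1,0,7,2,1,0,7,6],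
  [7,0,7,3,3,1,0,7,3,1,0,7],
  [1,2,1,0,7,3,1,0,7,3,1,0,7],
  [0,7,0,1,2,1,0,7,3,1,0,7],
  [1,0,7,3,3,1,0,7,3,1,0,7],
  [0,7,0,7,1,2,1,0,7,3,1,0,7],
  [0,7,1,3,1,0,7,3,3,1,0,7],
  [7,1,2,1,0,7,3,1,0,7,3,1,0,7],
  [7,1,3,1,0,7,2,1,0,7,2,1,0,7,6],
  [1,3,1,0,7,2,1,0,7,2,1,0,7,6],
  [3,1,0,7,2,1,0,7,2,1,0,7,6],
  [2,1,0,7,2,1,0,7,2,1,0,7],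
  [7,2,1,0,7,2,1,0,7,2,1,0,7],
  [2,1,0,7,2,1,0,7,3,3,1,0,7,6],
  [7,0,7,2,1,0,7,3,1,0,7,3,1,0,7],
  [1,0,7,3,1,0,7,0,1,3,1,0,7],
  [1,3,1,0,7,2,1,0,7,3,1,0,7],
  [1,0,7,2,1,0,7,2,2,1,0,7,6],
  [1,0,7,2,1,0,7,2,1,0,7,6],
  [2,1,0,7,3,1,0,7,2,1,0,7],
  [7,2,1,0,7,3,1,0,7,2,1,0,7,6],
  [7,0,7,1,0,7,3,1,0,7,3,3,1,0,7],
  [0,7,0,7,1,0,7,3,1,0,7,3,3,1,0,7],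
  [7,0,7,3,3,1,0,7,2,1,0,7],
  [3,3,1,0,7,3,1,0,7,6],
  [7,3,3,1,0,7,3,1,0,7,6],
  [7,1,0,7,3,3,1,0,7,3,1,0,7],
  [0,7,1,0,7,3,3,1,0,7,3,1,0,7],
  [7,0,7,1,0,7,3,3,1,0,7,3,1,0,7],
  [1,0,7,2,1,0,7,2,1,0,7,3,3,1,0,7],
  [3,1,0,7,3,1,0,7,2,1,0,7,6],
  [7,3,3,1,0,7,2,1,0,7,6],
  [7,3,3,1,0,7,2,1,0,7],
  [7,3,1,0,7,3,1,0,7,2,1,0,7,6],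
  [7,0,7,1,0,7,3,3,1,0,7],
  [7,0,7,1,0,7,2,2,1,0,7,6],
  [7,0,7,1,0,7,2,1,0,7,2,2,1,0,7,6],
  [0,7,1,0,7,2,1,0,7,2,2,1,0,7,6],
  [7,1,0,7,2,1,0,7,2,2,1,0,7,6],
  [7,0,7,2,1,0,7,2,2,1,0,7,6],
  [1,0,7,2,1,0,7,2,1,0,7,2,2,1,0,7,6],
  [0,7,2,1,0,7,2,1,0,7,2,2,1,0,7,6],
  [0,7,1,0,7,3,1,0,7,0,1,3,1,0,7],
  [7,0,7,1,0,7,3,1,0,7,0,1,3,1,0,7],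
  [3,3,1,0,7,3,1,0,7,2,1,0,7],
  [0,7,1,0,7,2,2,1,0,7,6],
  [7,1,0,7,2,2,1,0,7,6],
  [7,0,7,2,2,1,0,7,6],
  [2,1,0,7,1,2,1,0,7,3,1,0,7,6],
  [7,6,0,1,3,0,1,0],
  [6,0,1,3,0,1,0],
  [6,3,0,1,0],
  [0,7,1,0,7,3,3,1,0,7,2,1,0,7,6],
  [7,1,0,7,3,3,1,0,7,2,1,0,7,6],
  [7,0,7,3,3,1,0,7,2,1,0,7,6],
  [7,1,0,7,3,1,0,7,0,1,3,1,0,7],
  [7,1,3,1,0,7,2,1,0,7,3,1,0,7],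
  [7,3,1,0,7,2,1,0,7,2,1,0,7,6],
  [0,7,1,2,1,0,7,1,0,7,1,3,1,0,7],
  [7,1,0,7,1,0,7,1,3,1,0,7],
  [1,0,7,1,0,7,1,3,1,0,7],
  [1,0,7,0,7,1,3,1,0,7],
  [7,2,2,1,0,7,6],
  [0,7,0,7,1,3,1,0,7],
  [7,0,7,1,0,7,0,1,3,1,0,7],
  [7,2,1,3,0,1,0],
  [1,2,1,0,7,3,3,1,0,7],
  [7,3,1,2,0,1,0],
  [0,7,1,3,1,0,7,2,1,0,7,3,1,0,7],
  [7,1,0,7,1,3,1,0,7,2,1,0,7],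
  [0,7,3,3,1,0,7,3,1,0,7,2,1,0,7,6],
  [7,3,1,0,7,0,1,3,1,0,7],
  [0,7,0,7,1,0,7,2,1,0,7],
  [7,0,7,1,0,7,2,2,1,0,7],
  [1,0,7,2,1,0,7,1,2,1,0,7,3,1,0,7],
  [0,7,3,1,0,7,3,3,1,0,7,3,1,0,7],
  [7,0,7,1,3,1,0,7,2,1,0,7],
  [7,3,3,1,0,7,3,1,0,7,2,1,0,7,6],
  [0,7,2,1,0,7,2,1,0,7,2,2,1,0,7],
  [1,0,7,2,1,0,7,2,1,0,7,2,2,1,0,7],
  [7,0,7,3,1,0,7,2,1,0,7,2,1,0,7],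
  [7,3,1,0],
  [7,2,1,0],
  [7,3,3,1,0],
  [7,1,3,1,0],
  [2,2,1,0],
  [2,1,0],
  [3,3,1,0],
  [7,2,2,1,0],
  [7,6,1,2,2,1,3,0,1],
  [7,6,3,3,1,3,0,1],
  [6,3,1,3,0,1],
  [6,1,3,1,3,0,1],
  [0,7,1,0,7,1,3,1,0,7],
  [2,2,1,0],
  [6,2,1,2,0,1],
  [7,6,2,2,1,0],
  [6,2,2,1,0],
  [6,3,1,3,1,0],
  [6,3,3,0,1,0],
  [1,0,7,3,3,1,0,7,6],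
  [7,1,0,7,3,3,1,0,7,6],
  [0,7,1,0,7,3,3,1,0,7,6],
  [0,7,1,0,7,2,2,1,0,7],
  [7,1,2,2,1,0,7,2,1,0,7],
  [1,3,1,0,7,3,3,1,0,7],
  [3,1,0,7,3,3,1,0,7],
  [1,3,1,0,7,1,0,7,3,1,0,7,2,1,0,7],
  [0,7,2,2,1,0,7,2,1,0,7,2,1,0,7],
  [7,2,1,0,7,3,1,0,7,2,1,0,7],
  [2,1,0,7,2,2,1,0,7,2,1,0,7],
  [7,6,3,1,3,1,0],
  [6,0,1,3,3,0,1],
  [7,6,0,1,3,3,0,1],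
  [7,0,1,3,3,0,1],
  [2,1,0,7,2,1,0,7,3,1,0,7,6],
  [7,1,2,1,0,7,3,1,0,7,6],
  [0,7,1,2,1,0,7,3,1,0,7,6],
  [0,7,2,1,0,7,2,1,0,7,2,1,0,7],
  [1,0,7,2,2,1,0,7,6],
  [7,0,7,2,1,0,7,2,1,0,7],
  [7,0,7,2,2,1,0,7,2,1,0,7],
  [0,7,3,3,1,0,7,2,1,0,7],
  [1,0,7,3,3,1,0,7,3,1,0,7,6],
  [0,7,2,1,0,7,2,2,1,0,7,6],
  [1,3,1,0,7,2,1,0,7,3,1,0,7,6],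
  [1,3,0,1],
  [2,2,1,3,3,0,1],
  [0,7,2,1,0,7,2,2,1,0,7],
  [7,2,1,0,7,2,2,1,0,7],
  [7,0,7,0,1,2,1,0,7,3,1,0,7],
  [3,0,1,3,3,0,1],
  [7,3,0,1,3,3,0,1],
  [7,0,7,1,0,7,1,3,1,0,7,3,3,1,0,7],
  [0,7,6,3,3,0,1],
  [0,7,3,3,0,1],
  [7,1,3,3,0,1],
  [7,2,2,1,0,7,2,1,0,7],
  [2,1,0,7,0,7,3,1,0,7,2,1,0,7],
  [6,0,1,2,0,1,0],
  [7,1,3,1,0,7,2,1,0,7,3,1,0,7,6],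
  [7,0,7,3,1,0,7,0,1,3,1,0,7],
  [0,7,1,0,7,0,1,3,1,0,7],
  [7,2,2,1,3,3,0,1],
  [0,7,1,3,1,0,7,2,1,0,7,3,1,0,7,6],
  [0,7,3,3,1,0,7,3,1,0,7,2,1,0,7],
  [0,7,3,1,0,7,0,1,3,1,0,7],
  [6,3,0,1,3,0,1],
  [1,2,1,0,7,3,0,1,0],
  [7,0,7,3,1,0,7,2,1,0,7,2,1,0,7,6],
  [7,0,7,1,2,1,0,7,3,1,0,7],
  [7,0,7,1,3,1,0,7,3,3,1,0,7],
  [3,1,0,7,3,3,1,0,7,2,1,0,7],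
  [0,7,3,1,0,7,3,3,1,0,7,2,1,0,7],
  [7,1,0,7,2,1,0,7,2,1,0,7,6],
  [0,7,1,0,7,3,3,1,0,7],
  [7,1,0,7,3,3,1,0,7],
  [7,6,1,3,0,1],
  [7,1,3,0,1],
  [6,3,0,1,3,3,0,1],
  [0,7,1,3,3,0,1,0],
  [7,0,7,2,1,0,7,2,1,0,7,2,1,0,7],
  [0,1,3,0,1],
  [7,0,1,3,0,1],
  [7,6,0,1,3,0,1],
  [7,3,1,0,7,3,3,1,0,7],
  [0,7,3,1,0,7,3,3,1,0,7],
  [7,0,7,1,2,1,0,7,3,1,0,7,6],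
  [1,2,1,2,0,1],
  [0,7,2,2,1,0,7,2,1,0,7],
  [1,0,7,2,2,1,0,7,2,1,0,7],
  [7,6,2,1,3,3,0,1],
  [7,1,3,1,0,7,3,3,1,0,7],
  [7,0,7,2,1,0,7,2,1,0,7,2,1,0,7,6],
  [0,7,2,1,0,7,2,1,0,7,3,1,0,7,6],
  [7,0,7,2,1,0,7,2,1,0,7,3,1,0,7],
  [0,7,1,0,7,1,3,1,0,7,3,3,1,0,7],
  [7,1,0,7,1,3,1,0,7,3,3,1,0,7],
  [1,0,7,1,3,1,0,7,3,3,1,0,7],
  [3,1,3,0,1],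
  [1,3,1,3,0,1],
  [2,1,0,7,2,1,0,7,3,1,0,7],
  [0,7,6,0,1,3,1],
  [7,2,1,0,7,2,1,0,7,3,1,0,7],
  [0,7,2,1,0,7,2,1,0,7,3,1,0,7],
  [1,0,7,2,1,0,7,2,1,0,7,3,1,0,7],
  [0,7,0,1,3,1],
  [6,2,1,3,3,0,1],
  [7,2,2,1,3,0,1],
  [2,1,3,0,1,0],
  [0,7,6,2,2,0,1],
  [0,7,2,2,0,1],
  [6,2,0,1,3,0,1,0],
  [7,6,2,0,1,3,0,1,0],
  [1,3,3,0,1],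
  [6,3,1,3,0,1,0],
  [6,1,3,3,0,1],
  [7,6,1,3,3,0,1],
  [7,1,0,7,2,1,0,7,2,1,0,7],
  [0,7,3,3,3,0,1],
  [0,7,6,3,3,3,0,1],
  [6,3,1,3,1],
  [6,2,2,1],
  [6,2,2,0,1],
  [6,3,3,0,1],
  [6,3,3,3,0,1],
  [6,0,1,3,0,1]]

/-- representative, its word, and an expression of `b` in the letters `d e s s⁻¹ a c W W⁻¹` -/
def bWords : List (ℕ × List ℕ × List ℕ) := [(1, [8], [6]),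
  (37, [8, 6, 7, 8], [5, 0, 6, 0, 6, 0, 6, 0, 5]),
  (20, [8, 7, 0, 7, 8], [4, 6, 0, 6, 4, 0])]

end Cfsg.Agent.H67.Th
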